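import Groth.Agent.Lib.Synt92.MorAlg
import Groth.Agent.S9287

/-!
# Flat algebras over Artinian local rings with syntomic closed fibre
-/

noncomputable section

universe u

open scoped TensorProduct

namespace Groth.Agent.Lib.Smoothing.Synt.Artin

/-- The fibre at a maximal ideal is the quotient by the extended ideal. -/
theorem nonempty_fiber_equiv {A R R₀ : Type u} [CommRing A] [CommRing R] [CommRing R₀] [Algebra A R]
    (p : Ideal A) [p.IsMaximal] (π : R →+* R₀) (hπ : Function.Surjective π)
    (hker : RingHom.ker π = p.map (algebraMap A R)) :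
    Nonempty (p.Fiber R ≃+* R₀) := by
  letI : Algebra A R₀ := (π.comp (algebraMap A R)).toAlgebra
  have hcomm : ∀ a : A, π (algebraMap A R a) = algebraMap A R₀ a := fun _ => rfl
  let ψ : R →ₐ[A] R₀ := { π with commutes' := hcomm }
  have h1 : p ≤ RingHom.ker (Algebra.ofId A R₀) := fun a ha => by
    show π (algebraMap A R a) = 0
    rw [← RingHom.mem_ker, hker]
    exact Ideal.mem_map_of_mem _ ha
  have h2 : p.primeCompl ≤ (IsUnit.submonoid R₀).comap (Algebra.ofId A R₀) := fun a ha => by
    obtain ⟨y, i, hi, e⟩ := (inferInstance : p.IsMaximal).exists_inv ha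
    show IsUnit (algebraMap A R₀ a)
    have h := congrArg (algebraMap A R₀) e
    rw [map_add, map_mul, map_one, show algebraMap A R₀ i = 0 from h1 hi, add_zero] at h
    exact IsUnit.of_mul_eq_one_right _ h
  let φ : p.ResidueField →ₐ[A] R₀ := Ideal.ResidueField.liftₐ p (Algebra.ofId A R₀) h1 h2
  let L : p.Fiber R →ₐ[A] R₀ := Algebra.TensorProduct.lift φ ψ fun _ _ => Commute.all _ _
  have hL : ∀ r, L (1 ⊗ₜ r) = π r := fun r => by
    show L (1 ⊗ₜ r) = π r
    rw [Algebra.TensorProduct.lift_tmul, map_one, one_mul]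
    rfl
  have hsurj : ∀ z : p.Fiber R, ∃ r, (1 : p.ResidueField) ⊗ₜ[A] r = z := fun z => by
    induction z using TensorProduct.induction_on with
    | zero => exact ⟨0, TensorProduct.tmul_zero _ _⟩
    | tmul c r =>
      obtain ⟨a, rfl⟩ := Ideal.algebraMap_residueField_surjective p c
      exact ⟨a • r, by rw [Algebra.algebraMap_eq_smul_one, TensorProduct.smul_tmul]⟩
    | add x y hx hy =>
      obtain ⟨r, rfl⟩ := hx
      obtain ⟨s, rfl⟩ := hy
      exact ⟨r + s, TensorProduct.tmul_add _ _ _⟩
  have hbij : Function.Bijective L := by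
    refine ⟨(injective_iff_map_eq_zero L).2 fun z hz => ?_, fun x => ?_⟩
    · obtain ⟨r, rfl⟩ := hsurj z
      rw [hL, ← RingHom.mem_ker, hker] at hz
      have hle : p.map (algebraMap A R) ≤
          RingHom.ker (Algebra.TensorProduct.includeRight : R →ₐ[A] p.Fiber R).toRingHom :=
        Ideal.map_le_iff_le_comap.2 fun a ha => by
          rw [Ideal.mem_comap, RingHom.mem_ker]
          show (Algebra.TensorProduct.includeRight : R →ₐ[A] p.Fiber R) (algebraMap A R a) = 0
          rw [AlgHom.commutes, Algebra.TensorProduct.algebraMap_apply,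
            Ideal.algebraMap_residueField_eq_zero.2 ha, TensorProduct.zero_tmul]
      exact hle hz
    · obtain ⟨r, rfl⟩ := hπ x
      exact ⟨1 ⊗ₜ r, hL r⟩
  exact ⟨RingEquiv.ofBijective L hbij⟩

/-- Algebras lifting a finite type algebra along a nilpotent ideal of the base are of finite type. -/
theorem finiteType_of_nilpotent {k A R R₀ : Type u} [CommRing k] [CommRing A] [CommRing R] [CommRing R₀]
    [Algebra A R] [Algebra k R₀] [Algebra.FiniteType k R₀] (res : A →+* k) (hres : Function.Surjective res)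
    (hnil : IsNilpotent (RingHom.ker res)) (π : R →+* R₀) (hπ : Function.Surjective π)
    (hcomm : ∀ a, π (algebraMap A R a) = algebraMap k R₀ (res a))
    (hker : RingHom.ker π = (RingHom.ker res).map (algebraMap A R)) : Algebra.FiniteType A R := by
  classical
  obtain ⟨s, hs⟩ := (inferInstance : Algebra.FiniteType k R₀).out
  choose t ht using hπ
  let S : Subalgebra A R := Algebra.adjoin A ↑(s.image t)
  have hS : ∀ x : R₀, ∃ y ∈ S, π y = x := by
    intro x
    have hx : x ∈ Algebra.adjoin k (s : Set R₀) := hs ▸ Algebra.mem_top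
    induction hx using Algebra.adjoin_induction with
    | mem x hx => exact ⟨t x, Algebra.subset_adjoin (Finset.mem_image_of_mem _ hx), ht x⟩
    | algebraMap c =>
      obtain ⟨a, rfl⟩ := hres c
      exact ⟨algebraMap A R a, S.algebraMap_mem a, hcomm a⟩
    | add x y _ _ hx hy =>
      obtain ⟨a, ha, rfl⟩ := hx
      obtain ⟨b, hb, rfl⟩ := hy
      exact ⟨a + b, S.add_mem ha hb, map_add π a b⟩
    | mul x y _ _ hx hy =>
      obtain ⟨a, ha, rfl⟩ := hx
      obtain ⟨b, hb, rfl⟩ := hy
      exact ⟨a * b, S.mul_mem ha hb, map_mul π a b⟩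
  let I := RingHom.ker res
  have hstep : ∀ n : ℕ, (⊤ : Submodule A R) ≤ Subalgebra.toSubmodule S ⊔ I ^ n • (⊤ : Submodule A R) := by
    intro n
    induction n with
    | zero => rw [pow_zero, Ideal.one_eq_top, Submodule.top_smul]; exact le_sup_right
    | succ n ih =>
      have h1 : (⊤ : Submodule A R) ≤ Subalgebra.toSubmodule S ⊔ I • (⊤ : Submodule A R) := fun r _ => by
        obtain ⟨y, hy, hye⟩ := hS (π r)
        have : r - y ∈ RingHom.ker π := by rw [RingHom.mem_ker, map_sub, hye, sub_self]
        rw [hker] at this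
        have h2 : r - y ∈ I • (⊤ : Submodule A R) := by rw [Ideal.smul_top_eq_map]; exact this
        exact Submodule.mem_sup.2 ⟨y, hy, r - y, h2, add_sub_cancel _ _⟩
      refine h1.trans (sup_le le_sup_left ?_)
      refine (smul_mono_right I ih).trans ?_
      rw [Submodule.smul_sup, pow_succ', mul_smul]
      exact sup_le_sup_right Submodule.smul_le_right _
  obtain ⟨N, hN⟩ := hnil
  refine ⟨⟨s.image t, eq_top_iff.2 fun r _ => ?_⟩⟩
  have := hstep N (Submodule.mem_top (x := r))
  rwa [show I ^ N = ⊥ from hN, Submodule.bot_smul, sup_bot_eq] at this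

/-- A flat algebra over an Artinian local ring with syntomic closed fibre is syntomic. -/
theorem isSyntomic_of_closedFiber {k A R R₀ : Type u} [Field k] [CommRing A] [IsNoetherianRing A] [CommRing R]
    [CommRing R₀] [Algebra A R] [Algebra k R₀] [Module.Flat A R] (hsyn : _root_.Synt.IsSyntomic k R₀)
    (res : A →+* k) (hres : Function.Surjective res)
    (hnil : IsNilpotent (RingHom.ker res)) (π : R →+* R₀) (hπ : Function.Surjective π)
    (hcomm : ∀ a, π (algebraMap A R a) = algebraMap k R₀ (res a))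
    (hker : RingHom.ker π = (RingHom.ker res).map (algebraMap A R)) : _root_.Synt.IsSyntomic A R := by
  obtain ⟨-, hfp, hfib⟩ := Lib.Synt92.MorAlg.isSyntomic_iff.1 hsyn
  haveI := hfp
  haveI : Algebra.FiniteType A R := finiteType_of_nilpotent res hres hnil π hπ hcomm hker
  refine Lib.Synt92.MorAlg.isSyntomic_iff.2 ⟨inferInstance, Algebra.FinitePresentation.of_finiteType.1 ‹_›,
    fun p Q => ?_⟩
  have hmax : (RingHom.ker res).IsMaximal := RingHom.ker_isMaximal_of_surjective res hres
  have hp : p.asIdeal = RingHom.ker res := (hmax.eq_of_le p.2.ne_top (by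
    obtain ⟨N, hN⟩ := hnil
    exact p.2.le_of_pow_le (n := N) (hN.trans_le bot_le))).symm
  haveI : p.asIdeal.IsMaximal := hp ▸ hmax
  obtain ⟨e₁⟩ := nonempty_fiber_equiv p.asIdeal π hπ (by rw [hp]; exact hker)
  let q : PrimeSpectrum k := ⟨⊥, Ideal.isPrime_bot⟩
  haveI : q.asIdeal.IsMaximal := Ideal.bot_isMaximal
  obtain ⟨e₂⟩ := nonempty_fiber_equiv (R := R₀) q.asIdeal (RingHom.id R₀) Function.surjective_id
    (by rw [show q.asIdeal = ⊥ from rfl, Ideal.map_bot]; exact (RingHom.injective_iff_ker_eq_bot _).1 Function.injective_id)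
  let e : q.asIdeal.Fiber R₀ ≃+* p.asIdeal.Fiber R := e₂.trans e₁.symm
  let Q' : PrimeSpectrum (q.asIdeal.Fiber R₀) := PrimeSpectrum.comap e.toRingHom Q
  have hmem : ∀ x, e x ∈ Q.asIdeal ↔ x ∈ Q'.asIdeal := fun _ => Iff.rfl
  have hloc : Q'.asIdeal.primeCompl.map e.toMonoidHom = Q.asIdeal.primeCompl := by
    ext x
    constructor
    · rintro ⟨y, hy, rfl⟩
      exact fun h => hy ((hmem y).1 h)
    · intro hx
      exact ⟨e.symm x, fun h => hx (e.apply_symm_apply x ▸ (hmem (e.symm x)).2 h), e.apply_symm_apply x⟩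
  let E : Localization.AtPrime Q'.asIdeal ≃+* Localization.AtPrime Q.asIdeal :=
    IsLocalization.ringEquivOfRingEquiv (M := Q'.asIdeal.primeCompl) (T := Q.asIdeal.primeCompl) _ _ e hloc
  haveI : Algebra.FiniteType k R₀ := inferInstance
  haveI := Lib.Synt92.MorStalk.essFiniteType_fiber q.asIdeal Q'.asIdeal
  haveI := Lib.Synt92.MorStalk.essFiniteType_fiber p.asIdeal Q.asIdeal
  exact (Lib.Synt92.MorAlg.isCompleteIntersection_iff_of_equiv p.asIdeal.ResidueField E).1
    ((Lib.Synt92.MorAlg.isCompleteIntersection_iff_of_equiv q.asIdeal.ResidueField (RingEquiv.refl _)).2 (hfib q Q'))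

end Groth.Agent.Lib.Smoothing.Synt.Artin
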