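import Groth.Agent.Lib.Synt92.CritLocal
import Groth.Agent.Lib.Synt92.MorAlg
import Groth.Agent.Lib.Synt92.Syzygy
import Groth.Agent.S9170
import Mathlib.RingTheory.LocalProperties.Basic

/-!
# Local equations of syntomic algebras glued by an idempotent matrix
-/

universe u

open MvPolynomial

namespace Groth.Agent.Lib.Smoothing.Synt.Charts

variable {R : Type u} [CommRing R] {n c : ℕ}

/-- Relations among the equations of a relative global complete intersection die on it. -/
theorem eq_zero_of_sum (F : Fin c → MvPolynomial (Fin n) R) (g : MvPolynomial (Fin n) R)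
    (hrel : _root_.Synt.IsRelGCI R (n + 1) (c + 1) (Synt92.AwayPres.ext R n c F g)) {B : Type u} [CommRing B]
    [Algebra R B] (φ : MvPolynomial (Fin n) R →ₐ[R] B) (hF : ∀ j, φ (F j) = 0) (hg : IsUnit (φ g))
    (z : Fin c → MvPolynomial (Fin n) R) (hz : ∑ j, z j * F j ∈ Ideal.span (Set.range F) ^ 2)
    (j : Fin c) : φ (z j) = 0 := by
  classical
  let θ : MvPolynomial (Fin (n + 1)) R →ₐ[R] B :=
    aeval (Fin.snoc (fun i => φ (X i)) (↑hg.unit⁻¹ : B))
  have hren : ∀ x, θ (rename Fin.castSucc x) = φ x := fun x => by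
    have : θ.comp (rename Fin.castSucc) = φ := MvPolynomial.algHom_ext fun i => by simp [θ]
    exact DFunLike.congr_fun this x
  let G := Synt92.AwayPres.ext R n c F g
  have hθG : Ideal.span (Set.range G) ≤ RingHom.ker θ.toRingHom := by
    rw [Ideal.span_le]
    rintro _ ⟨i, rfl⟩
    show θ (Synt92.AwayPres.ext R n c F g i) = 0
    refine Fin.lastCases ?_ (fun i => ?_) i
    · simp only [Synt92.AwayPres.ext, Fin.snoc_last, map_sub, map_mul, map_one, hren, sub_eq_zero]
      rw [show θ (X (Fin.last n)) = (↑hg.unit⁻¹ : B) by simp [θ]]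
      exact hg.mul_val_inv
    · simp only [Synt92.AwayPres.ext, Fin.snoc_castSucc, hren, hF]
  let a : Fin (c + 1) → MvPolynomial (Fin (n + 1)) R :=
    Fin.snoc (fun i => rename Fin.castSucc (z i)) 0
  have hsum : ∑ i, a i * G i ∈ Ideal.span (Set.range G) ^ 2 := by
    have h1 := Ideal.mem_map_of_mem (rename Fin.castSucc : MvPolynomial (Fin n) R →ₐ[R] _) hz
    rw [Ideal.map_pow] at h1
    have hle : (Ideal.span (Set.range F)).map (rename Fin.castSucc : MvPolynomial (Fin n) R →ₐ[R] _) ≤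
        Ideal.span (Set.range G) := by
      rw [Ideal.map_span, Ideal.span_le]
      rintro _ ⟨_, ⟨i, rfl⟩, rfl⟩
      exact Ideal.subset_span ⟨i.castSucc, by simp [G, Synt92.AwayPres.ext]⟩
    rw [Fin.sum_univ_castSucc]
    simp only [a, G, Synt92.AwayPres.ext, Fin.snoc_last, Fin.snoc_castSucc, zero_mul, add_zero]
    rw [map_sum] at h1
    simp only [map_mul] at h1
    exact Ideal.pow_right_mono hle 2 h1
  have key := Synt92.Syzygy.coeff_mem_of_sum_mem_sq G (fun q hqm hle => by
    have := (Groth.Agent.S9170.result R (n + 1) (c + 1) G hrel q hle).1.toIsWeaklyRegular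
    rwa [List.map_ofFn] at this) a hsum j.castSucc
  have h2 : θ (a j.castSucc) = 0 := hθG key
  rwa [show a j.castSucc = rename Fin.castSucc (z j) by simp [a], hren] at h2

/-- Local complete intersection charts of a syntomic algebra and an idempotent matrix compatible
with all of them. -/
theorem exists_charts {A : Type u} [CommRing A] [Algebra R A] (h : _root_.Synt.IsSyntomic R A)
    (φ : MvPolynomial (Fin n) R →ₐ[R] A) (hφ : Function.Surjective φ) {k : ℕ}
    (gb : Fin k → MvPolynomial (Fin n) R) (hgb : RingHom.ker φ.toRingHom = Ideal.span (Set.range gb)) :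
    ∃ M : Matrix (Fin k) (Fin k) (MvPolynomial (Fin n) R),
      (∀ i, gb i - ∑ l, M i l * gb l ∈ Ideal.span (Set.range gb) ^ 2) ∧
      IsIdempotentElem (M.map φ) ∧
      ∀ q : Ideal A, q.IsPrime → ∃ (c : ℕ) (F : Fin c → MvPolynomial (Fin n) R)
        (g : MvPolynomial (Fin n) R) (a : Matrix (Fin c) (Fin k) (MvPolynomial (Fin n) R))
        (t : Matrix (Fin k) (Fin c) (MvPolynomial (Fin n) R)),
        φ g ∉ q ∧ (∀ j, φ (F j) = 0) ∧ (∀ j, F j = ∑ l, a j l * gb l) ∧
          (∀ i, g * gb i = ∑ j, t i j * F j) ∧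
          _root_.Synt.IsRelGCI R (n + 1) (c + 1) (Synt92.AwayPres.ext R n c F g) ∧
          φ g • M.map φ = (t * a).map φ * M.map φ := by
  classical
  obtain ⟨hflat, hfp, hci⟩ := Synt92.MorAlg.isSyntomic_iff.1 h
  have := hflat
  have := hfp
  have hI : (RingHom.ker φ.toRingHom).FG := by
    rw [hgb]; exact Submodule.fg_span (Set.finite_range gb)
  have hex : ∀ q : PrimeSpectrum A, ∃ (c : ℕ) (F : Fin c → MvPolynomial (Fin n) R)
      (g : MvPolynomial (Fin n) R) (a : Matrix (Fin c) (Fin k) (MvPolynomial (Fin n) R))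
      (t : Matrix (Fin k) (Fin c) (MvPolynomial (Fin n) R)),
      φ g ∉ q.asIdeal ∧ (∀ j, φ (F j) = 0) ∧ (∀ j, F j = ∑ l, a j l * gb l) ∧
        (∀ i, g * gb i = ∑ j, t i j * F j) ∧
        _root_.Synt.IsRelGCI R (n + 1) (c + 1) (Synt92.AwayPres.ext R n c F g) := by
    intro q
    have : Module.Flat R (Localization.AtPrime q.asIdeal) := Module.Flat.trans R A _
    obtain ⟨c, F, g, hg, hF, hgF, hrel⟩ := Synt92.CritLocal.exists_data φ hφ hI q.asIdeal
      (q.asIdeal.under R) rfl (Groth.Agent.H20.FibreDimBC.fibrePoint R A q.asIdeal).asIdeal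
      (Groth.Agent.H20.FibreDimBC.comap_fibrePoint q.asIdeal)
      (hci ⟨q.asIdeal.under R, inferInstance⟩ _)
    have ha : ∀ j, ∃ a : Fin k → MvPolynomial (Fin n) R, ∑ l, a l * gb l = F j := fun j =>
      Ideal.mem_span_range_iff_exists_fun.1 (hgb.le (hF j))
    have ht : ∀ i, ∃ t : Fin c → MvPolynomial (Fin n) R, ∑ j, t j * F j = g * gb i := fun i =>
      Ideal.mem_span_range_iff_exists_fun.1 (hgF _ (hgb.ge (Ideal.subset_span ⟨i, rfl⟩)))
    choose a ha using ha
    choose t ht using ht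
    exact ⟨c, F, g, a, t, hg, hF, fun j => (ha j).symm, fun i => (ht i).symm, hrel⟩
  choose c F g a t hg hF haF htF hrel using hex
  let G : PrimeSpectrum A → A := fun q => φ (g q)
  have hG : Ideal.span (Set.range G) = ⊤ := by
    by_contra hne
    obtain ⟨m, hm, hle⟩ := Ideal.exists_le_maximal _ hne
    exact hg ⟨m, hm.isPrime⟩ (hle (Ideal.subset_span ⟨_, rfl⟩))
  obtain ⟨S, hS⟩ : ∃ S : Finset (PrimeSpectrum A), Ideal.span (G '' ↑S) = ⊤ := by
    obtain ⟨T, hT, hone⟩ := Submodule.mem_span_finite_of_mem_span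
      (show (1 : A) ∈ Ideal.span (Set.range G) from hG ▸ Submodule.mem_top)
    rw [← Set.image_univ] at hT
    obtain ⟨S, -, rfl⟩ := Finset.subset_set_image_iff.1 hT
    refine ⟨S, (Ideal.eq_top_iff_one _).2 ?_⟩
    simpa [Finset.coe_image] using hone
  let W : (q : PrimeSpectrum A) → Matrix (Fin k) (Fin k) (MvPolynomial (Fin n) R) := fun q => t q * a q
  have hWgb : ∀ q i, ∑ l, W q i l * gb l = g q * gb i := fun q i => by
    simp only [W, Matrix.mul_apply, Finset.sum_mul, htF q i, haF, Finset.mul_sum]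
    rw [Finset.sum_comm]
    exact Finset.sum_congr rfl fun j _ => Finset.sum_congr rfl fun l _ => by ring
  let W₀ : PrimeSpectrum A → Matrix (Fin k) (Fin k) A := fun q => (W q).map φ
  have hkill : ∀ (q q' : PrimeSpectrum A) i j, ∃ N : ℕ,
      G q ^ N * ((G q' • (1 : Matrix (Fin k) (Fin k) A) - W₀ q') * W₀ q) i j = 0 := by
    intro q q' i j
    let r : Fin k → MvPolynomial (Fin n) R := fun l =>
      (g q' • (1 : Matrix (Fin k) (Fin k) (MvPolynomial (Fin n) R)) - W q') i l
    have hr : ∑ l, r l * gb l = 0 := by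
      simp [r, sub_mul, Finset.sum_sub_distrib, hWgb, Matrix.one_apply, ite_mul]
    let z : Fin (c q) → MvPolynomial (Fin n) R := fun m => ∑ l, r l * t q l m
    have hz : ∑ m, z m * F q m = 0 := by
      calc ∑ m, z m * F q m = ∑ l, r l * ∑ m, t q l m * F q m := by
            simp only [z, Finset.sum_mul, Finset.mul_sum, mul_assoc]
            exact Finset.sum_comm
        _ = g q * ∑ l, r l * gb l := by
            rw [Finset.mul_sum]
            exact Finset.sum_congr rfl fun l _ => by rw [← htF]; ring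
        _ = 0 := by rw [hr, mul_zero]
    let ι : A →ₐ[R] Localization.Away (G q) := IsScalarTower.toAlgHom R A _
    have hzero : ∀ m, ι (φ (z m)) = 0 := fun m =>
      eq_zero_of_sum (F q) (g q) (hrel q) (ι.comp φ) (fun j => by simp [hF])
        (IsLocalization.Away.algebraMap_isUnit (G q)) z (by rw [hz]; exact zero_mem _) m
    have h1 : ι (((G q' • (1 : Matrix (Fin k) (Fin k) A) - W₀ q') * W₀ q) i j) = 0 := by
      have h2 : ((G q' • (1 : Matrix (Fin k) (Fin k) A) - W₀ q') * W₀ q) i j =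
          ∑ m, φ (z m) * φ (a q m j) := by
        have h3 : ∀ l, (G q' • (1 : Matrix (Fin k) (Fin k) A) - W₀ q') i l = φ (r l) := fun l => by
          simp [r, G, W₀, Matrix.one_apply, apply_ite φ]
        simp only [Matrix.mul_apply, h3, W₀, Matrix.map_apply, W, z, map_sum, map_mul,
          Finset.mul_sum, Finset.sum_mul, mul_assoc]
        exact Finset.sum_comm
      rw [h2, map_sum]
      exact Finset.sum_eq_zero fun m _ => by rw [map_mul, hzero, zero_mul]
    obtain ⟨⟨_, N, rfl⟩, hN⟩ := (IsLocalization.map_eq_zero_iff (Submonoid.powers (G q))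
      (Localization.Away (G q)) _).1 h1
    exact ⟨N, hN⟩
  choose Nf hNf using hkill
  let N : ℕ := ∑ q ∈ S, ∑ q' ∈ S, ∑ i, ∑ j, Nf q q' i j
  have hN : ∀ q ∈ S, ∀ q' ∈ S, W₀ q' * (G q ^ N • W₀ q) = G q' • (G q ^ N • W₀ q) := by
    intro q hq q' hq'
    have h0 : G q ^ N • ((G q' • (1 : Matrix (Fin k) (Fin k) A) - W₀ q') * W₀ q) = 0 := by
      ext i j
      have hle : Nf q q' i j ≤ N :=
        (Finset.single_le_sum (f := fun j => Nf q q' i j) (fun _ _ => Nat.zero_le _)
          (Finset.mem_univ j)).trans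
        ((Finset.single_le_sum (f := fun i => ∑ j, Nf q q' i j) (fun _ _ => Nat.zero_le _)
          (Finset.mem_univ i)).trans
        ((Finset.single_le_sum (f := fun q' => ∑ i, ∑ j, Nf q q' i j) (fun _ _ => Nat.zero_le _) hq').trans
        (Finset.single_le_sum (f := fun q => ∑ q' ∈ S, ∑ i, ∑ j, Nf q q' i j)
          (fun _ _ => Nat.zero_le _) hq)))
      obtain ⟨e, he⟩ := Nat.le.dest hle
      simp only [Matrix.smul_apply, smul_eq_mul, Matrix.zero_apply]
      rw [← he, pow_add, mul_right_comm, hNf, zero_mul]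
    rw [sub_mul, smul_sub, smul_mul_assoc, one_mul, sub_eq_zero] at h0
    rw [Matrix.mul_smul, ← h0, smul_comm]
  have hpow : Ideal.span ((fun q => G q ^ (N + 1)) '' ↑S) = ⊤ := by
    have := Ideal.span_pow_eq_top _ hS (N + 1)
    rwa [← Set.image_comp] at this
  obtain ⟨lam, hlam⟩ : ∃ lam : PrimeSpectrum A → A, ∑ q ∈ S, lam q * G q ^ (N + 1) = 1 := by
    have h1 : (1 : A) ∈ Ideal.span (Set.range fun q : S => G q ^ (N + 1)) := by
      rw [show Set.range (fun q : S => G q ^ (N + 1)) = (fun q => G q ^ (N + 1)) '' ↑S by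
        ext x; simp [eq_comm], hpow]
      exact Submodule.mem_top
    obtain ⟨l, hl⟩ := Ideal.mem_span_range_iff_exists_fun.1 h1
    refine ⟨fun q => if hq : q ∈ S then l ⟨q, hq⟩ else 0, ?_⟩
    rw [← hl, ← Finset.sum_attach]
    exact Finset.sum_congr rfl fun q _ => by simp
  choose lam' hlam' using fun q => hφ (lam q)
  let M : Matrix (Fin k) (Fin k) (MvPolynomial (Fin n) R) :=
    ∑ q ∈ S, (lam' q * g q ^ N) • W q
  have hM₀ : M.map φ = ∑ q ∈ S, lam q • (G q ^ N • W₀ q) := by
    ext i j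
    simp [M, G, W₀, Matrix.sum_apply, hlam', mul_assoc]
  have hWM : ∀ q' ∈ S, W₀ q' * M.map φ = G q' • M.map φ := by
    intro q' hq'
    rw [hM₀, Matrix.mul_sum, Finset.smul_sum]
    exact Finset.sum_congr rfl fun q hq => by rw [Matrix.mul_smul, hN q hq q' hq', smul_comm]
  refine ⟨M, fun i => ?_, ?_, fun q hq => ?_⟩
  · let ε := ∑ q ∈ S, lam' q * g q ^ (N + 1)
    have h1 : ∑ l, M i l * gb l = ε * gb i := by
      simp only [M, Matrix.sum_apply, Matrix.smul_apply, smul_eq_mul, Finset.sum_mul]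
      rw [Finset.sum_comm]
      simp only [ε, Finset.sum_mul, mul_assoc, ← Finset.mul_sum, hWgb, pow_succ]
    rw [h1, show gb i - ε * gb i = (1 - ε) * gb i by ring, pow_two]
    refine Ideal.mul_mem_mul (hgb.le ?_) (Ideal.subset_span ⟨i, rfl⟩)
    show φ (1 - ε) = 0
    simp [ε, hlam', G, ← hlam]
  · show M.map φ * M.map φ = M.map φ
    nth_rewrite 1 [hM₀]
    rw [Matrix.sum_mul]
    conv_rhs => rw [← one_smul A (M.map φ), ← hlam, Finset.sum_smul]
    refine Finset.sum_congr rfl fun q hq => ?_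
    rw [smul_mul_assoc, smul_mul_assoc, hWM q hq, smul_smul, smul_smul, mul_assoc, ← pow_succ]
  · obtain ⟨q', hq', hgq⟩ : ∃ q' ∈ S, G q' ∉ q := by
      by_contra! hcon
      refine hq.ne_top (top_le_iff.1 (hS ▸ Ideal.span_le.2 ?_))
      rintro _ ⟨q', hq', rfl⟩
      exact hcon q' hq'
    exact ⟨c q', F q', g q', a q', t q', hgq, hF q', haF q', htF q', hrel q', (hWM q' hq').symm⟩

end Groth.Agent.Lib.Smoothing.Synt.Charts
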