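import Groth.Agent.Lib.Smoothing.Synt.LiftPrelim
import Groth.Agent.Lib.Synt92.AwayPres
import Groth.Agent.Lib.Synt92.GCIBasic
import Groth.Agent.Lib.Synt92.RelChart
import Groth.Agent.Lib.Synt92.ReductionEquiv
import Groth.Agent.S9172

/-!
# Syntomic neighbourhoods in a lifted algebra
-/

universe u

open MvPolynomial
open scoped TensorProduct

namespace Groth.Agent.Lib.Smoothing.Synt.LiftNbhd

theorem exists_syntomic_nbhd {R : Type u} [CommRing R] (I : Ideal R) {P' : Type u} [CommRing P']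
    [Algebra R P'] {A₀ : Type u} [CommRing A₀] [Algebra (R ⧸ I) A₀] [Algebra R A₀]
    [IsScalarTower R (R ⧸ I) A₀] {N₀ m : ℕ} (π : MvPolynomial (Fin N₀) R →ₐ[R] P')
    (hπ : Function.Surjective π) (G : Fin m → MvPolynomial (Fin N₀) R)
    (hG : RingHom.ker π.toRingHom = Ideal.span (Set.range G))
    (ψ : P' →ₐ[R] A₀) (hψ : Function.Surjective ψ) {k : ℕ} (h : Fin k → P') (hh : ∀ i, ψ (h i) = 0)
    (b : P') (hb : ∀ x, ψ x = 0 → b * x ∈ Ideal.span (Set.range h) ⊔ I.map (algebraMap R P'))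
    {c : ℕ} (F' : Fin c → P') (hF' : ∀ j, F' j ∈ Ideal.span (Set.range h))
    (w : P') (hbw : b ∣ w) (hwh : ∀ i, w * h i ∈ Ideal.span (Set.range F'))
    (hdim : ∀ p : PrimeSpectrum (R ⧸ I), Nontrivial (p.asIdeal.Fiber (Localization.Away (ψ w))) →
      ∃ d : ℕ, m + c + d = N₀ ∧
        ringKrullDim (p.asIdeal.Fiber (Localization.Away (ψ w))) ≤ (d : WithBot ℕ∞))
    (q : Ideal (P' ⧸ Ideal.span (Set.range h))) [q.IsPrime]
    (hIq : I.map (algebraMap R (P' ⧸ Ideal.span (Set.range h))) ≤ q)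
    (hwq : Ideal.Quotient.mk (Ideal.span (Set.range h)) w ∉ q) :
    ∃ γ : P' ⧸ Ideal.span (Set.range h), γ ∉ q ∧
      _root_.Synt.IsSyntomic R (Localization.Away γ) := by
  classical
  choose Fh hFh using fun j => hπ (F' j)
  obtain ⟨wh, hwh'⟩ := hπ w
  let G' : Fin (m + c) → MvPolynomial (Fin N₀) R := Fin.append G Fh
  let J' : Ideal P' := Ideal.span (Set.range F')
  let πB : MvPolynomial (Fin N₀) R →ₐ[R] P' ⧸ J' := (Ideal.Quotient.mkₐ R J').comp π
  have hπB : Function.Surjective πB := Ideal.Quotient.mk_surjective.comp hπ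
  have hkerB : RingHom.ker πB.toRingHom = Ideal.span (Set.range G') := by
    refine le_antisymm (fun z hz => ?_) (Ideal.span_le.2 ?_)
    · obtain ⟨r, hr⟩ := Ideal.mem_span_range_iff_exists_fun.1
        (Ideal.Quotient.eq_zero_iff_mem.1 hz : π z ∈ J')
      choose r' hr' using fun j => hπ (r j)
      have h1 : z - ∑ j, r' j * Fh j ∈ Ideal.span (Set.range G) := hG.le (by
        show π (z - ∑ j, r' j * Fh j) = 0
        simp [map_sum, hr', hFh, hr])
      rw [← sub_add_cancel z (∑ j, r' j * Fh j)]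
      refine add_mem (Ideal.span_mono ?_ h1) (Ideal.sum_mem _ fun j _ => Ideal.mul_mem_left _ _
        (Ideal.subset_span ⟨Fin.natAdd m j, by simp [G']⟩))
      rintro _ ⟨l, rfl⟩
      exact ⟨Fin.castAdd c l, by simp [G']⟩
    · rintro _ ⟨l, rfl⟩
      show Ideal.Quotient.mk J' (π (G' l)) = 0
      refine Fin.addCases (fun l => ?_) (fun j => ?_) l
      · simp only [G', Fin.append_left]
        rw [show π (G l) = 0 from hG.ge (Ideal.subset_span ⟨l, rfl⟩), map_zero]
      · simp only [G', Fin.append_right]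
        rw [hFh, Ideal.Quotient.eq_zero_iff_mem]
        exact Ideal.subset_span ⟨j, rfl⟩
  let eB : _root_.Synt.RelGCIRing R N₀ (m + c) G' ≃ₐ[R] P' ⧸ J' :=
    (Ideal.quotientEquivAlgOfEq R hkerB.symm).trans (Ideal.quotientKerAlgEquivOfSurjective hπB)
  have heB : eB (Ideal.Quotient.mk _ wh) = Ideal.Quotient.mk J' w := by
    show πB wh = _
    simp only [πB, AlgHom.comp_apply, Ideal.Quotient.mkₐ_eq_mk, hwh']
  let H : Ideal P' := Ideal.span (Set.range h)
  obtain ⟨e₁⟩ := Synt92.AwayPres.nonempty_equiv R N₀ (m + c) G' wh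
  obtain ⟨e₂⟩ := Synt92.Congr.nonempty_away_congr eB (Ideal.Quotient.mk _ wh)
  rw [heB] at e₂
  obtain ⟨e₃⟩ := Synt92.Congr.nonempty_away_quotient (R := R) H J'
    (Ideal.span_le.2 (by rintro _ ⟨j, rfl⟩; exact hF' j)) w (fun y hy => by
      induction hy using Submodule.span_induction with
      | mem x hx => obtain ⟨i, rfl⟩ := hx; exact hwh i
      | zero => simp
      | add a b _ _ ha hb => rw [mul_add]; exact add_mem ha hb
      | smul a x _ hx => rw [smul_eq_mul, mul_left_comm]; exact Ideal.mul_mem_left _ _ hx)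
  let wq : P' ⧸ H := Ideal.Quotient.mk H w
  let L := Localization.Away wq
  let X := _root_.Synt.RelGCIRing R (N₀ + 1) (m + c + 1) (Synt92.AwayPres.ext R N₀ (m + c) G' wh)
  let e : X ≃ₐ[R] L := e₁.symm.trans (e₂.trans e₃)
  -- the reduction
  let ψQ : P' ⧸ H →ₐ[R] A₀ := Ideal.Quotient.liftₐ H ψ fun x hx =>
    (Ideal.span_le.2 (by rintro _ ⟨i, rfl⟩; exact hh i) : H ≤ RingHom.ker ψ.toRingHom) hx
  let ι₀ : A₀ →ₐ[R] Localization.Away (ψ w) := IsScalarTower.toAlgHom R A₀ _
  have hu : ∀ y : Submonoid.powers wq, IsUnit (ι₀.comp ψQ y) := by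
    rintro ⟨_, N, rfl⟩
    rw [map_pow]
    exact (IsLocalization.Away.algebraMap_isUnit (ψ w)).pow N
  let ψL : L →ₐ[R] Localization.Away (ψ w) := IsLocalization.liftAlgHom (S := L) hu
  have hψL : ∀ x, ψL (algebraMap _ L (Ideal.Quotient.mk H x)) = ι₀ (ψ x) := fun x =>
    IsLocalization.lift_eq hu _
  have hψLsurj : Function.Surjective ψL := fun z => by
    obtain ⟨⟨a, ⟨_, N, rfl⟩⟩, hz⟩ := IsLocalization.surj (Submonoid.powers (ψ w)) z
    obtain ⟨x, rfl⟩ := hψ a
    refine ⟨IsLocalization.mk' L (Ideal.Quotient.mk H x) (⟨_, N, rfl⟩ : Submonoid.powers wq), ?_⟩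
    refine ((IsLocalization.Away.algebraMap_isUnit (S := Localization.Away (ψ w)) (ψ w)).pow N).mul_right_cancel ?_
    rw [← map_pow, hz]
    have h2 := congrArg ψL (IsLocalization.mk'_spec L (Ideal.Quotient.mk H x)
      (⟨_, N, rfl⟩ : Submonoid.powers wq))
    simp only at h2
    have h3 : ψL (algebraMap (P' ⧸ H) L (wq ^ N)) = ι₀ (ψ w ^ N) := by
      rw [← map_pow ψ, ← hψL, map_pow (Ideal.Quotient.mk H)]
    rw [map_mul, h3, hψL] at h2
    exact h2
  have hkerL : RingHom.ker ψL.toRingHom = I.map (algebraMap R L) := by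
    refine le_antisymm (fun z hz => ?_) (Ideal.map_le_iff_le_comap.2 fun r hr => ?_)
    · obtain ⟨⟨a, s⟩, has⟩ := IsLocalization.surj (Submonoid.powers wq) z
      obtain ⟨x, rfl⟩ := Ideal.Quotient.mk_surjective a
      have h1 : ι₀ (ψ x) = 0 := by
        rw [← hψL, ← has, map_mul, show ψL z = 0 from hz, zero_mul]
      obtain ⟨⟨_, l, rfl⟩, hl⟩ :=
        (IsLocalization.map_eq_zero_iff (Submonoid.powers (ψ w)) _ _).1 h1
      have h2 : b * (w ^ l * x) ∈ H ⊔ I.map (algebraMap R P') := hb _ (by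
        rw [map_mul, map_pow]; exact hl)
      obtain ⟨b', hb'⟩ := hbw
      have h3 : w ^ (l + 1) * x ∈ H ⊔ I.map (algebraMap R P') := by
        rw [show w ^ (l + 1) * x = b' * (b * (w ^ l * x)) by rw [hb']; ring]
        exact Ideal.mul_mem_left _ _ h2
      have hle : H ⊔ I.map (algebraMap R P') ≤
          (I.map (algebraMap R L)).comap ((algebraMap (P' ⧸ H) L).comp (Ideal.Quotient.mk H)) := by
        refine sup_le (fun y hy => ?_) (Ideal.map_le_iff_le_comap.2 fun r hr => ?_)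
        · show algebraMap (P' ⧸ H) L (Ideal.Quotient.mk H y) ∈ I.map (algebraMap R L)
          rw [Ideal.Quotient.eq_zero_iff_mem.2 hy, map_zero]
          exact zero_mem _
        · show algebraMap (P' ⧸ H) L (algebraMap R (P' ⧸ H) r) ∈ I.map (algebraMap R L)
          rw [← IsScalarTower.algebraMap_apply]
          exact Ideal.mem_map_of_mem _ hr
      have h4 := hle h3
      simp only [Ideal.mem_comap, RingHom.comp_apply, map_mul, map_pow] at h4
      rw [← has, ← mul_assoc] at h4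
      refine (Ideal.mul_unit_mem_iff_mem _ (IsLocalization.map_units L s)).1 ?_
      refine (Ideal.unit_mul_mem_iff_mem _
        ((IsLocalization.Away.algebraMap_isUnit (S := L) wq).pow (l + 1))).1 ?_
      rw [← mul_assoc]
      exact h4
    · show ψL (algebraMap R L r) = 0
      rw [AlgHom.commutes, IsScalarTower.algebraMap_apply R A₀, IsScalarTower.algebraMap_apply R (R ⧸ I) A₀,
        Ideal.Quotient.algebraMap_eq, Ideal.Quotient.eq_zero_iff_mem.2 hr, map_zero, map_zero]
  let F₁ := Synt92.AwayPres.ext R N₀ (m + c) G' wh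
  obtain ⟨Φ, hΦ, hΦker⟩ := Synt92.ReductionEquiv.exists_hom I F₁
  let Ψ : X →ₐ[R] Localization.Away (ψ w) := ψL.comp e.toAlgHom
  have hΨ : Function.Surjective Ψ := hψLsurj.comp e.surjective
  have hΨker : RingHom.ker Ψ.toRingHom = I.map (algebraMap R X) := by
    have h1 : (I.map (algebraMap R X)).map e.toAlgHom.toRingHom = I.map (algebraMap R L) := by
      rw [Ideal.map_map]
      exact congrArg (Ideal.map · I) (RingHom.ext fun r => e.commutes r)
    show RingHom.ker (ψL.toRingHom.comp e.toAlgHom.toRingHom) = _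
    rw [← RingHom.comap_ker, hkerL, ← h1]
    exact Ideal.comap_map_of_bijective _ e.bijective
  let Xb := _root_.Synt.RelGCIRing (R ⧸ I) (N₀ + 1) (m + c + 1)
    (fun i => MvPolynomial.map (Ideal.Quotient.mk I) (F₁ i))
  let Ω₀ : Xb ≃ₐ[R] Localization.Away (ψ w) := (Ideal.quotientKerAlgEquivOfSurjective hΦ).symm.trans
    ((Ideal.quotientEquivAlgOfEq R (hΦker.trans hΨker.symm)).trans
      (Ideal.quotientKerAlgEquivOfSurjective hΨ))
  have hR : ∀ r : R ⧸ I, Ω₀ (algebraMap (R ⧸ I) Xb r) = algebraMap (R ⧸ I) _ r := fun r => by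
    obtain ⟨r, rfl⟩ := Ideal.Quotient.mk_surjective r
    exact (congrArg Ω₀ (IsScalarTower.algebraMap_apply R (R ⧸ I) Xb r).symm).trans
      ((Ω₀.commutes r).trans (IsScalarTower.algebraMap_apply R (R ⧸ I) (Localization.Away (ψ w)) r))
  let Ω : Xb ≃ₐ[R ⧸ I] Localization.Away (ψ w) := AlgEquiv.ofRingEquiv (f := Ω₀.toRingEquiv) hR
  have hrel : _root_.Synt.IsRelGCI (R ⧸ I) (N₀ + 1) (m + c + 1)
      (fun i => MvPolynomial.map (Ideal.Quotient.mk I) (F₁ i)) := by
    intro p hp
    have eΩ := Algebra.TensorProduct.congr (R := R ⧸ I) (S := p.asIdeal.ResidueField)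
      (AlgEquiv.refl (A₁ := p.asIdeal.ResidueField)) Ω
    have hnt : Nontrivial (p.asIdeal.Fiber (Localization.Away (ψ w))) := by
      haveI := hp
      exact (eΩ.toEquiv.symm).nontrivial
    obtain ⟨d, hd, hdle⟩ := hdim p hnt
    refine ⟨by omega, ?_⟩
    have he : ringKrullDim (p.asIdeal.Fiber Xb) =
        ringKrullDim (p.asIdeal.Fiber (Localization.Away (ψ w))) :=
      ringKrullDim_eq_of_ringEquiv eΩ.toRingEquiv
    have hle := he.le.trans hdle
    rw [show d = N₀ + 1 - (m + c + 1) by omega] at hle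
    obtain ⟨φp, hφp, hkerp⟩ := Synt92.GCIBasic.exists_presentation (R ⧸ I)
      (fun i => MvPolynomial.map (Ideal.Quotient.mk I) (F₁ i)) p.asIdeal
    exact @Synt92.RelChart.ringKrullDim_eq p.asIdeal.ResidueField _ (N₀ + 1) (m + c + 1) (by omega)
      (p.asIdeal.Fiber Xb) _ _ hp φp hφp _ hkerp hle
  obtain ⟨hv, hv1, hrelv, ⟨ev⟩⟩ := Groth.Agent.S9172.result R (N₀ + 1) (m + c + 1) F₁ I hrel
  let v : X := Ideal.Quotient.mk _ hv
  have hsyn : _root_.Synt.IsSyntomic R (Localization.Away v) :=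
    Synt92.PointCrit.isSyntomic_of_relGCI hrelv ev
  let z : L := e v
  obtain ⟨ez⟩ := Synt92.Congr.nonempty_away_congr e v
  have hdis : Disjoint ((Submonoid.powers wq : Submonoid _) : Set (P' ⧸ H)) (q : Set (P' ⧸ H)) := by
    rw [Set.disjoint_left]
    rintro _ ⟨N, rfl⟩ hN
    exact hwq (Ideal.IsPrime.mem_of_pow_mem ‹q.IsPrime› N hN)
  let qL : Ideal L := q.map (algebraMap _ L)
  have hqL : qL.IsPrime :=
    IsLocalization.isPrime_of_isPrime_disjoint (Submonoid.powers wq) L q inferInstance hdis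
  have hqLc : qL.comap (algebraMap _ L) = q :=
    IsLocalization.comap_map_of_isPrime_disjoint (Submonoid.powers wq) L inferInstance hdis
  have hzq : z ∉ qL := fun hz => hqL.ne_top ((Ideal.eq_top_iff_one _).2 (by
    have h1 : v - 1 ∈ I.map (algebraMap R X) := by
      rw [← Ideal.Quotient.eq_zero_iff_mem, map_sub, map_one, sub_eq_zero]
      exact hv1
    have h2 : z - 1 ∈ I.map (algebraMap R L) := by
      have h3 := Ideal.mem_map_of_mem e.toAlgHom.toRingHom h1
      rw [Ideal.map_map, show e.toAlgHom.toRingHom.comp (algebraMap R X) = algebraMap R L from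
        RingHom.ext fun r => e.commutes r, map_sub, map_one] at h3
      exact h3
    have h4 : I.map (algebraMap R L) ≤ qL := by
      rw [IsScalarTower.algebraMap_eq R (P' ⧸ H) L, ← Ideal.map_map]
      exact Ideal.map_mono hIq
    rw [show (1 : L) = z - (z - 1) by ring]
    exact sub_mem hz (h4 h2)))
  obtain ⟨y, hy, ⟨ey⟩⟩ := Synt92.Congr.exists_away_away (k := R) wq z qL hzq
  refine ⟨wq * y, fun hm => hy (by rw [hqLc]; exact hm), ?_⟩
  exact Synt92.Congr.isSyntomic_congr (ez.trans ey.symm) hsyn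

end Groth.Agent.Lib.Smoothing.Synt.LiftNbhd
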