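import Groth.Agent.Lib.Smoothing.Synt.Charts
import Groth.Agent.Lib.Smoothing.Synt.LiftNbhd
import Groth.Agent.Lib.Smoothing.LiftIdem
import Groth.Agent.Lib.Smoothing.LocalJacobian
import Groth.Agent.S9146
import Mathlib.RingTheory.Finiteness.Nakayama

/-!
# Lifting syntomic algebras along surjections
-/

universe u

open MvPolynomial
open scoped TensorProduct

namespace Groth.Agent.Lib.Smoothing.Synt.Lift

variable {R A₀ : Type u} [CommRing R] (I : Ideal R) [CommRing A₀] [Algebra (R ⧸ I) A₀]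

set_option maxHeartbeats 1600000 in
/-- A syntomic algebra over `R/I` is the reduction of a syntomic algebra over `R`. -/
theorem exists_lift (hsyn : _root_.Synt.IsSyntomic (R ⧸ I) A₀) :
    ∃ (A : Type u) (_ : CommRing A) (_ : Algebra R A), _root_.Synt.IsSyntomic R A ∧
      Nonempty ((A ⧸ I.map (algebraMap R A)) ≃ₐ[R ⧸ I] A₀) := by
  classical
  letI : Algebra R A₀ := Algebra.compHom A₀ (Ideal.Quotient.mk I)
  haveI : IsScalarTower R (R ⧸ I) A₀ := IsScalarTower.of_algebraMap_eq' rfl
  haveI := hsyn.2.1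
  obtain ⟨n, φ₀, hφ₀, hfg₀⟩ := (hsyn.2.1).out
  obtain ⟨k, gb, hgb⟩ := Submodule.fg_iff_exists_fin_generating_family.1 hfg₀
  obtain ⟨Mb, hMgb, hM₀, hcharts⟩ := Charts.exists_charts hsyn φ₀ hφ₀ gb hgb.symm
  let P := MvPolynomial (Fin n) R
  let red : P →+* MvPolynomial (Fin n) (R ⧸ I) := MvPolynomial.map (Ideal.Quotient.mk I)
  have hred : Function.Surjective red := map_surjective _ Ideal.Quotient.mk_surjective
  choose g hg using fun i => hred (gb i)
  letI : Algebra P A₀ := (φ₀.toRingHom.comp red).toAlgebra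
  have hPA : ∀ p : P, algebraMap P A₀ p = φ₀ (red p) := fun _ => rfl
  haveI : IsScalarTower R P A₀ := IsScalarTower.of_algebraMap_eq fun r => by
    rw [hPA, MvPolynomial.algebraMap_eq]
    show _ = φ₀ (map _ (C r))
    rw [map_C, ← MvPolynomial.algebraMap_eq, AlgHom.commutes]
    rfl
  have hPsurj : Function.Surjective (algebraMap P A₀) := hφ₀.comp hred
  have hgb0 : ∀ i, φ₀ (gb i) = 0 := fun i => hgb.le (Ideal.subset_span ⟨i, rfl⟩)
  have hg0 : ∀ i, algebraMap P A₀ (g i) = 0 := fun i => by rw [hPA, hg]; exact hgb0 i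
  choose Mf hMf using fun (il : Fin k × Fin k) => hred (Mb il.1 il.2)
  let M : Matrix (Fin k) (Fin k) P := Matrix.of fun i l => Mf (i, l)
  have hMred : ∀ i l, red (M i l) = Mb i l := fun i l => hMf (i, l)
  let M₀ : Matrix (Fin k) (Fin k) A₀ := Mb.map φ₀
  have hM : M.map (algebraMap P A₀) = M₀ := Matrix.ext fun i l => by
    show φ₀ (red (M i l)) = φ₀ (Mb i l)
    rw [hMred]
  obtain ⟨P', _, _, ψ, E, hP', hE, hEψ⟩ :=
    LiftIdem.exists_etale_idem (A₀ := A₀) M (hM ▸ hM₀)
  rw [hM] at hEψ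
  letI : Algebra R P' := Algebra.compHom P' (algebraMap R P)
  haveI : IsScalarTower R P P' := IsScalarTower.of_algebraMap_eq' rfl
  have : Algebra.FinitePresentation R P' := Algebra.FinitePresentation.trans R P P'
  let ι := algebraMap P P'
  have hψι : ∀ p, ψ (ι p) = algebraMap P A₀ p := ψ.commutes
  have hψsurj : Function.Surjective ψ := fun x => by
    obtain ⟨p, rfl⟩ := hPsurj x
    exact ⟨ι p, hψι p⟩
  let h : Fin k → P' := fun i => ∑ j, E i j * ι (g j)
  have hEh : ∀ i, h i = ∑ j, E i j * h j := fun i => by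
    simp only [h, Finset.mul_sum, ← mul_assoc]
    rw [Finset.sum_comm]
    simp only [← Finset.sum_mul]
    refine Finset.sum_congr rfl fun l _ => ?_
    rw [← Matrix.mul_apply, hE.eq]
  have hψh : ∀ i, ψ (h i) = 0 := fun i => by simp [h, map_sum, hψι, hg0]
  let H : Ideal P' := Ideal.span (Set.range h)
  let H : Ideal P' := Ideal.span (Set.range h)
  let J₁ : Ideal P' := RingHom.ker ψ.toRingHom
  have hHJ : H ≤ J₁ := Ideal.span_le.2 (by rintro _ ⟨i, rfl⟩; exact hψh i)
  let IP : Ideal P' := I.map (algebraMap R P')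
  have hIJ : IP ≤ J₁ := Ideal.map_le_iff_le_comap.2 fun x hx => by
    show ψ (algebraMap R P' x) = 0
    rw [IsScalarTower.algebraMap_apply R P P', hψι, ← IsScalarTower.algebraMap_apply,
      IsScalarTower.algebraMap_apply R (R ⧸ I) A₀, Ideal.Quotient.algebraMap_eq,
      Ideal.Quotient.eq_zero_iff_mem.2 hx, map_zero]
  -- the kernel of `P → A₀`
  have hkerred : ∀ p, red p = 0 → p ∈ I.map (C : R →+* P) := fun p hp => by
    have := MvPolynomial.ker_map (σ := Fin n) (Ideal.Quotient.mk I)
    rw [Ideal.mk_ker] at this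
    rw [← this]
    exact hp
  have hICIP : ∀ p ∈ I.map (C : R →+* P), ι p ∈ IP := fun p hp => by
    have h' := Ideal.mem_map_of_mem ι hp
    rw [Ideal.map_map] at h'
    exact h'
  have hkerP : ∀ p, algebraMap P A₀ p = 0 → p ∈ Ideal.span (Set.range g) ⊔ I.map (C : R →+* P) := by
    intro p hp
    have h1 : red p ∈ Ideal.span (Set.range gb) := hgb.ge hp
    have h2 : Ideal.span (Set.range gb) = (Ideal.span (Set.range g)).map red := by
      rw [Ideal.map_span, ← Set.range_comp]
      exact congrArg _ (congrArg Set.range (funext fun i => (hg i).symm))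
    rw [h2, Ideal.mem_map_iff_of_surjective red hred] at h1
    obtain ⟨p', hp', hpp'⟩ := h1
    rw [← add_sub_cancel p' p]
    exact Ideal.add_mem _ (Ideal.mem_sup_left hp')
      (Ideal.mem_sup_right (hkerred _ (by rw [map_sub, hpp', sub_self])))
  let T : Ideal P' := H ⊔ IP
  have hTJ : T ≤ J₁ := sup_le hHJ hIJ
  have hgJ : ∀ i, ι (g i) ∈ J₁ := fun i => (hψι _).trans (hg0 i)
  have hgT : ∀ i, ι (g i) ∈ T ⊔ J₁ * J₁ := by
    intro i
    have h3 : g i - ∑ j, M i j * g j ∈ Ideal.span (Set.range g) * Ideal.span (Set.range g) ⊔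
        I.map (C : R →+* P) := by
      have h4 : red (g i - ∑ j, M i j * g j) ∈
          (Ideal.span (Set.range g) * Ideal.span (Set.range g)).map red := by
        have h5 : Ideal.span (Set.range gb) = (Ideal.span (Set.range g)).map red := by
          rw [Ideal.map_span, ← Set.range_comp]
          exact congrArg _ (congrArg Set.range (funext fun i => (hg i).symm))
        rw [Ideal.map_mul, ← h5, map_sub, map_sum, hg, ← pow_two]
        simp only [map_mul, hg, hMred]
        exact hMgb i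
      rw [Ideal.mem_map_iff_of_surjective red hred] at h4
      obtain ⟨p', hp', hpp'⟩ := h4
      rw [← add_sub_cancel p' (g i - _)]
      exact Ideal.add_mem _ (Ideal.mem_sup_left hp')
        (Ideal.mem_sup_right (hkerred _ (by rw [map_sub, hpp', sub_self])))
    have h4 : ι (g i - ∑ j, M i j * g j) ∈ T ⊔ J₁ * J₁ := by
      refine SetLike.le_def.1 ?_ (Ideal.mem_map_of_mem ι h3)
      rw [Ideal.map_sup, Ideal.map_mul, sup_le_iff]
      constructor
      · refine le_sup_of_le_right (Ideal.mul_mono ?_ ?_) <;>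
        · rw [Ideal.map_span, Ideal.span_le]
          rintro _ ⟨_, ⟨j, rfl⟩, rfl⟩
          exact hgJ j
      · refine le_sup_of_le_left (le_sup_of_le_right (Ideal.map_le_iff_le_comap.2 fun x hx => ?_))
        exact hICIP x hx
    have h5 : ι (g i) = ι (g i - ∑ j, M i j * g j) + (h i + ∑ j, (ι (M i j) - E i j) * ι (g j)) := by
      simp only [h, sub_mul, Finset.sum_sub_distrib, map_sub, map_sum, map_mul]
      ring
    rw [h5]
    refine add_mem h4 (add_mem (Ideal.mem_sup_left (Ideal.mem_sup_left (Ideal.subset_span ⟨i, rfl⟩)))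
      (Submodule.sum_mem _ fun j _ => Ideal.mem_sup_right (Ideal.mul_mem_mul ?_ (hgJ j))))
    show ψ (ι (M i j) - E i j) = 0
    rw [map_sub, hψι, show ψ (E i j) = M₀ i j from congrFun (congrFun hEψ i) j,
      show algebraMap P A₀ (M i j) = M₀ i j from congrFun (congrFun hM i) j, sub_self]
  -- `J₁ = J₁² + T` as `P'` is unramified over `P`
  have hJsq : J₁ ≤ T ⊔ J₁ * J₁ := by
    let Q₂ := P' ⧸ (T ⊔ J₁ * J₁)
    have hker₂ : RingHom.ker (Algebra.ofId P A₀) ≤ RingHom.ker (Algebra.ofId P Q₂) := by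
      intro p hp
      show algebraMap P Q₂ p = 0
      rw [IsScalarTower.algebraMap_apply P P' Q₂, Ideal.Quotient.algebraMap_eq,
        Ideal.Quotient.eq_zero_iff_mem]
      refine SetLike.le_def.1 ?_ (Ideal.mem_map_of_mem ι (hkerP p hp))
      rw [Ideal.map_sup, Ideal.map_span, sup_le_iff, Ideal.span_le]
      refine ⟨?_, ?_⟩
      · rintro _ ⟨_, ⟨j, rfl⟩, rfl⟩
        exact hgT j
      · exact Ideal.map_le_iff_le_comap.2 fun x hx => Ideal.mem_sup_left (Ideal.mem_sup_right (hICIP x hx))
    let σ : A₀ →ₐ[P] Q₂ := AlgHom.liftOfSurjective (Algebra.ofId P A₀) hPsurj (Algebra.ofId P Q₂) hker₂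
    have hσ : ∀ p, σ (algebraMap P A₀ p) = algebraMap P Q₂ p := σ.commutes
    have hsame : Ideal.Quotient.mkₐ P (T ⊔ J₁ * J₁) = σ.comp ψ := by
      refine Algebra.FormallyUnramified.ext (R := P)
        (J₁.map (Ideal.Quotient.mk (T ⊔ J₁ * J₁))) ⟨2, ?_⟩ fun x => ?_
      · rw [pow_two, ← Ideal.map_mul, Ideal.zero_eq_bot, Ideal.map_eq_bot_iff_le_ker, Ideal.mk_ker]
        exact le_sup_right
      · obtain ⟨p, hp⟩ := hPsurj (ψ x)
        show Ideal.Quotient.mk _ (Ideal.Quotient.mk _ x) = Ideal.Quotient.mk _ (σ (ψ x))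
        rw [← hp, hσ, Ideal.Quotient.mk_eq_mk_iff_sub_mem]
        rw [IsScalarTower.algebraMap_apply P P' Q₂, Ideal.Quotient.algebraMap_eq, ← map_sub]
        refine Ideal.mem_map_of_mem _ ?_
        show ψ (x - ι p) = 0
        rw [map_sub, hψι, hp, sub_self]
    intro x hx
    rw [← Ideal.Quotient.eq_zero_iff_mem, ← Ideal.Quotient.mkₐ_eq_mk P, hsame]
    show σ (ψ x) = 0
    rw [show ψ x = 0 from hx, map_zero]
  -- `J₁` is finitely generated modulo `IP`
  obtain ⟨S, hS⟩ := (inferInstance : Algebra.FiniteType P P').out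
  let Y : Finset P' := Finset.univ.image (fun i => ι (g i)) ∪
    S.image fun y => y - ι (Classical.choose (hPsurj (ψ y)))
  have hYJ : Ideal.span (Y : Set P') ≤ J₁ := by
    rw [Ideal.span_le]
    intro z hz
    simp only [Y, Finset.coe_union, Finset.coe_image, Finset.coe_univ, Set.image_univ,
      Set.mem_union, Set.mem_range, Set.mem_image] at hz
    rcases hz with ⟨i, rfl⟩ | ⟨y, -, rfl⟩
    · exact hgJ i
    · show ψ (y - ι _) = 0
      rw [map_sub, hψι, Classical.choose_spec (hPsurj (ψ y)), sub_self]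
  have hJgen : J₁ ≤ Ideal.span (Y : Set P') ⊔ IP := by
    have hred' : ∀ x, ∃ p, x - ι p ∈ Ideal.span (Y : Set P') ⊔ IP := by
      intro x
      have hx : x ∈ Algebra.adjoin P (S : Set P') := hS ▸ trivial
      induction hx using Algebra.adjoin_induction with
      | mem y hy => exact ⟨_, Ideal.mem_sup_left (Ideal.subset_span (Finset.mem_union_right _
          (Finset.mem_image_of_mem _ hy)))⟩
      | algebraMap p => exact ⟨p, by rw [sub_self]; exact zero_mem _⟩
      | add a b _ _ ha hb =>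
        obtain ⟨p, hp⟩ := ha; obtain ⟨q, hq⟩ := hb
        exact ⟨p + q, by rw [map_add, add_sub_add_comm]; exact add_mem hp hq⟩
      | mul a b _ _ ha hb =>
        obtain ⟨p, hp⟩ := ha; obtain ⟨q, hq⟩ := hb
        exact ⟨p * q, by
          rw [map_mul, show a * b - ι p * ι q = (a - ι p) * b + ι p * (b - ι q) by ring]
          exact add_mem (Ideal.mul_mem_right _ _ hp) (Ideal.mul_mem_left _ _ hq)⟩
    intro x hx
    obtain ⟨p, hp⟩ := hred' x
    have hp0 : algebraMap P A₀ p = 0 := by
      have h' : ψ (x - ι p) = 0 := sup_le hYJ hIJ hp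
      rwa [map_sub, show ψ x = 0 from hx, zero_sub, neg_eq_zero, hψι] at h'
    rw [← sub_add_cancel x (ι p)]
    refine add_mem hp (SetLike.le_def.1 ?_ (Ideal.mem_map_of_mem ι (hkerP p hp0)))
    rw [Ideal.map_sup, Ideal.map_span, sup_le_iff, Ideal.span_le]
    refine ⟨?_, ?_⟩
    · rintro _ ⟨_, ⟨j, rfl⟩, rfl⟩
      exact Ideal.mem_sup_left (Ideal.subset_span (Finset.mem_union_left _
        (Finset.mem_image_of_mem _ (Finset.mem_univ j))))
    · exact Ideal.map_le_iff_le_comap.2 fun x hx => Ideal.mem_sup_right (hICIP x hx)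
  -- Nakayama
  obtain ⟨b, hb₁, hb⟩ : ∃ b, b - 1 ∈ J₁ ∧ ∀ x ∈ J₁, b * x ∈ T := by
    let N : Submodule P' (P' ⧸ T) := Submodule.map T.mkQ J₁
    have hNfg : N.FG := by
      have : N = Submodule.map T.mkQ (Ideal.span (Y : Set P')) := by
        refine le_antisymm ?_ (Submodule.map_mono hYJ)
        refine (Submodule.map_mono hJgen).trans ?_
        rw [Submodule.map_sup]
        refine sup_le le_rfl ?_
        rintro _ ⟨x, hx, rfl⟩
        rw [show T.mkQ x = 0 from (Submodule.Quotient.mk_eq_zero _).2 (Ideal.mem_sup_right hx)]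
        exact zero_mem _
      rw [this]
      exact Submodule.FG.map _ ⟨Y, rfl⟩
    obtain ⟨b, hb, hb'⟩ := Submodule.exists_sub_one_mem_and_smul_eq_zero_of_fg_of_le_smul J₁ N hNfg (by
      refine (Submodule.map_mono hJsq).trans ?_
      rw [Submodule.map_sup]
      refine sup_le ?_ ?_
      · rintro _ ⟨x, hx, rfl⟩
        rw [show T.mkQ x = 0 from (Submodule.Quotient.mk_eq_zero _).2 hx]
        exact zero_mem _
      · rw [← smul_eq_mul, Submodule.map_smul''])
    refine ⟨b, hb, fun x hx => (Submodule.Quotient.mk_eq_zero T).1 ?_⟩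
    exact hb' _ ⟨x, hx, rfl⟩
  have hψb : ψ b = 1 := by
    have : ψ (b - 1) = 0 := hb₁
    rwa [map_sub, map_one, sub_eq_zero] at this
  -- the quotient and its good elements
  let Q := P' ⧸ H
  have : Algebra.FinitePresentation R Q :=
    Algebra.FinitePresentation.quotient (Submodule.fg_span (Set.finite_range _))
  let ψR : P' →ₐ[R] A₀ := ψ.restrictScalars R
  let ψQ : Q →ₐ[R] A₀ := Ideal.Quotient.liftₐ H ψR fun x hx => hHJ hx
  have hψR : Function.Surjective ψR := hψsurj
  obtain ⟨m, π, G, hπ, hG⟩ := LiftPrelim.exists_etale_presentation (R := R) (P' := P') (n := n)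
  let good : Set Q := {γ | _root_.Synt.IsSyntomic R (Localization.Away γ)}
  have hnbhd : ∀ q : Ideal Q, q.IsPrime → I.map (algebraMap R Q) ≤ q →
      Ideal.Quotient.mk H b ∉ q → ∃ γ ∈ good, γ ∉ q := by
    intro q hq hIq hbq
    have hkerQ : RingHom.ker ψQ.toRingHom ≤ q := by
      intro z hz
      obtain ⟨x, rfl⟩ := Ideal.Quotient.mk_surjective z
      have h1 : b * x ∈ T := hb x hz
      have h2 : Ideal.Quotient.mk H (b * x) ∈ q := by
        have hle : T ≤ q.comap (Ideal.Quotient.mk H) := by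
          refine sup_le (fun y hy => ?_) (Ideal.map_le_iff_le_comap.2 fun r hr => ?_)
          · show Ideal.Quotient.mk H y ∈ q
            rw [Ideal.Quotient.eq_zero_iff_mem.2 hy]
            exact q.zero_mem
          · exact hIq (Ideal.mem_map_of_mem _ hr)
        exact hle h1
      rw [map_mul] at h2
      exact (hq.mem_or_mem h2).resolve_left hbq
    have hψQsurj : Function.Surjective ψQ := fun x => by
      obtain ⟨y, rfl⟩ := hψsurj x
      exact ⟨Ideal.Quotient.mk H y, rfl⟩
    let q₀ : Ideal A₀ := q.map ψQ.toRingHom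
    have hq₀ : q₀.IsPrime := Ideal.map_isPrime_of_surjective (f := ψQ.toRingHom) hψQsurj hkerQ
    let q' : Ideal P' := q.comap (Ideal.Quotient.mk H)
    have hq'prime : q'.IsPrime := Ideal.IsPrime.comap _
    have hq' : ∀ x, ψ x ∈ q₀ ↔ x ∈ q' := fun x => by
      show ψQ.toRingHom (Ideal.Quotient.mk H x) ∈ q₀ ↔ Ideal.Quotient.mk H x ∈ q
      rw [← Ideal.mem_comap, Ideal.comap_map_of_surjective _
        (show Function.Surjective ψQ.toRingHom from hψQsurj),
        sup_eq_left.2 (show Ideal.comap ψQ.toRingHom ⊥ ≤ q from hkerQ)]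
    obtain ⟨c, Fb, gc, ab, tb, hgc, hFb, haF, htF, hrel, hgM⟩ := hcharts q₀ hq₀
    choose gl hgl using hred gc
    choose al hal using fun (x : Fin c × Fin k) => hred (ab x.1 x.2)
    choose tl htl using fun (x : Fin k × Fin c) => hred (tb x.1 x.2)
    let ã : Matrix (Fin c) (Fin k) P' := Matrix.of fun j l => ι (al (j, l))
    let t' : Matrix (Fin k) (Fin c) P' := Matrix.of fun i j => ι (tl (i, j))
    let g' : P' := ι gl
    let F' : Fin c → P' := fun j => ∑ l, ã j l * h l
    have hF' : ∀ j, F' j ∈ H := fun j =>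
      Ideal.sum_mem _ fun l _ => Ideal.mul_mem_left _ _ (Ideal.subset_span ⟨l, rfl⟩)
    have hψg : ψ g' = φ₀ gc := by rw [hψι, hPA, hgl]
    have hg' : g' ∉ q' := fun hm => hgc (hψg ▸ (hq' _).2 hm)
    let N : Matrix (Fin k) (Fin k) P' := (g' • (1 : Matrix (Fin k) (Fin k) P') - t' * ã) * E
    have hN : ∀ i l, N i l ∈ q' := by
      intro i l
      have h1 : N.map ψ = 0 := by
        have ha : ã.map ψ = ab.map φ₀ := Matrix.ext fun j l => by
          show ψ (ι (al (j, l))) = φ₀ (ab j l)
          rw [hψι, hPA, hal]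
        have ht : t'.map ψ = tb.map φ₀ := Matrix.ext fun i j => by
          show ψ (ι (tl (i, j))) = φ₀ (tb i j)
          rw [hψι, hPA, htl]
        have hs : (g' • (1 : Matrix (Fin k) (Fin k) P') - t' * ã).map ψ =
            φ₀ gc • (1 : Matrix (Fin k) (Fin k) A₀) - (tb * ab).map φ₀ := by
          rw [Matrix.map_sub ψ (map_sub ψ), Matrix.map_mul, ha, ht, ← Matrix.map_mul]
          congr 1
          ext u v
          simp [Matrix.one_apply, apply_ite ψ, hψg]
        show ((g' • (1 : Matrix (Fin k) (Fin k) P') - t' * ã) * E).map ψ = 0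
        rw [Matrix.map_mul, hs, hEψ, sub_mul, smul_mul_assoc, one_mul, sub_eq_zero]
        exact hgM
      have h2 : ψ (N i l) = 0 := congrFun (congrFun h1 i) l
      exact (hq' _).1 (h2 ▸ q₀.zero_mem)
    obtain ⟨u, hu, huh⟩ := LocalJacobian.exists_mul_mem h (Ideal.span (Set.range F')) q' g' hg' (fun i => by
      have h1 : g' * h i = ∑ j, t' i j * F' j + ∑ l, N i l * h l := by
        have h2 : N.mulVec h = (g' • (1 : Matrix (Fin k) (Fin k) P') - t' * ã).mulVec h := by
          show ((g' • (1 : Matrix (Fin k) (Fin k) P') - t' * ã) * E).mulVec h = _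
          rw [← Matrix.mulVec_mulVec, show E.mulVec h = h from funext fun i => (hEh i).symm]
        have h3 : N.mulVec h i = g' * h i - t'.mulVec (ã.mulVec h) i := by
          rw [h2, Matrix.sub_mulVec, Matrix.smul_mulVec, Matrix.one_mulVec, ← Matrix.mulVec_mulVec]
          rfl
        show _ = (t'.mulVec (ã.mulVec h)) i + N.mulVec h i
        rw [h3]
        ring
      rw [h1]
      exact add_mem (Ideal.sum_mem _ fun j _ => Ideal.mem_sup_left
          (Ideal.mul_mem_left _ _ (Ideal.subset_span ⟨j, rfl⟩)))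
        (Ideal.sum_mem _ fun l _ => Ideal.mem_sup_right
          (Ideal.mul_mem_mul (hN i l) (Ideal.subset_span ⟨l, rfl⟩))))
    let w : P' := b * (g' * u)
    have hwq : Ideal.Quotient.mk H w ∉ q := fun hm => by
      rcases hq'prime.mem_or_mem (show b * (g' * u) ∈ q' from hm) with h1 | h1
      · exact hbq h1
      · exact (hq'prime.mem_or_mem h1).elim hg' hu
    refine LiftNbhd.exists_syntomic_nbhd I π hπ G hG ψR hψR h hψh b (fun x hx => hb x hx) F' hF' w
      ⟨g' * u, rfl⟩ (fun i => ?_) (fun p hp => ?_) q hIq hwq |>.imp fun γ hγ => ⟨hγ.2, hγ.1⟩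
    · show b * (g' * u) * h i ∈ _
      rw [show b * (g' * u) * h i = b * g' * (u * h i) by ring]
      exact Ideal.mul_mem_left _ _ (huh i)
    · let x : A₀ := φ₀ gc
      let y : A₀ := ψ (b * u)
      have hxy : ψR w = x * y := by
        show ψ (b * (g' * u)) = φ₀ gc * ψ (b * u)
        rw [← hψg, ← map_mul]
        congr 1
        ring
      have hle : ringKrullDim (p.asIdeal.Fiber (Localization.Away (ψR w))) ≤
          ringKrullDim (p.asIdeal.Fiber (Localization.Away x)) := by
        rw [hxy]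
        exact LiftPrelim.ringKrullDim_fiber_away_mul_le p.asIdeal x y
      obtain ⟨ea⟩ := Synt92.Congr.nonempty_away_quotient (R := R ⧸ I) (RingHom.ker φ₀.toRingHom)
        (Ideal.span (Set.range Fb)) (Ideal.span_le.2 (by rintro _ ⟨j, rfl⟩; exact hFb j)) gc
        (fun z hz => by
          obtain ⟨r, rfl⟩ := Ideal.mem_span_range_iff_exists_fun.1 (hgb.ge hz)
          rw [Finset.mul_sum]
          refine Ideal.sum_mem _ fun i _ => ?_
          rw [mul_left_comm, htF]
          exact Ideal.mul_mem_left _ _ (Ideal.sum_mem _ fun j _ =>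
            Ideal.mul_mem_left _ _ (Ideal.subset_span ⟨j, rfl⟩)))
      obtain ⟨eb⟩ := Synt92.AwayPres.nonempty_equiv (R ⧸ I) n c Fb gc
      obtain ⟨ec⟩ := Synt92.Congr.nonempty_away_congr (Ideal.quotientKerAlgEquivOfSurjective hφ₀)
        (Ideal.Quotient.mk (RingHom.ker φ₀) gc)
      let ex : Localization.Away x ≃ₐ[R ⧸ I] _ := ec.symm.trans (ea.symm.trans eb)
      have ex' := Algebra.TensorProduct.congr (R := R ⧸ I) (S := p.asIdeal.ResidueField)
        (AlgEquiv.refl (A₁ := p.asIdeal.ResidueField)) ex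
      have hdimx : ringKrullDim (p.asIdeal.Fiber (Localization.Away x)) =
          ringKrullDim (p.asIdeal.Fiber (_root_.Synt.RelGCIRing (R ⧸ I) (n + 1) (c + 1)
            (Synt92.AwayPres.ext (R ⧸ I) n c Fb gc))) :=
        ringKrullDim_eq_of_ringEquiv ex'.toRingEquiv
      have hnt : Nontrivial (p.asIdeal.Fiber (_root_.Synt.RelGCIRing (R ⧸ I) (n + 1) (c + 1)
          (Synt92.AwayPres.ext (R ⧸ I) n c Fb gc))) := by
        by_contra hc
        rw [not_nontrivial_iff_subsingleton] at hc
        haveI := hc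
        haveI := hp
        have h1 := hle.trans (hdimx.le.trans ringKrullDim_eq_bot_of_subsingleton.le)
        exact absurd (ringKrullDim_nonneg_of_nontrivial.trans h1) (by simp)
      obtain ⟨hcn, hd⟩ := hrel p hnt
      exact ⟨n + 1 - (c + 1), by omega, hle.trans (hdimx.trans hd).le⟩
  -- choose the basic open
  let K : Ideal Q := Ideal.span good ⊔ I.map (algebraMap R Q)
  have hbK : Ideal.Quotient.mk H b ∈ K.radical := by
    rw [Ideal.radical_eq_sInf, Ideal.mem_sInf]
    rintro J ⟨hKJ, hJ⟩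
    by_contra hbJ
    obtain ⟨γ, hγ, hγJ⟩ := hnbhd J hJ (le_sup_right.trans hKJ) hbJ
    exact hγJ (hKJ (Ideal.mem_sup_left (Ideal.subset_span hγ)))
  obtain ⟨N, hN⟩ := hbK
  obtain ⟨κ, hκ, i₁, hi₁, hsum⟩ := Submodule.mem_sup.1 hN
  have hψb' : ψQ (Ideal.Quotient.mk H b) = 1 := hψb
  have hψκ : ψQ κ = 1 := by
    have h1 : ψQ i₁ = 0 := by
      refine (Ideal.map_le_iff_le_comap.2 (fun r hr => ?_) : I.map (algebraMap R Q) ≤
        RingHom.ker ψQ.toRingHom) hi₁
      show ψQ (algebraMap R Q r) = 0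
      rw [AlgHom.commutes, IsScalarTower.algebraMap_apply R (R ⧸ I) A₀, Ideal.Quotient.algebraMap_eq,
        Ideal.Quotient.eq_zero_iff_mem.2 hr, map_zero]
    have h2 := congrArg ψQ hsum
    rwa [map_add, h1, add_zero, map_pow, hψb', one_pow] at h2
  let bQ : Q := Ideal.Quotient.mk H b
  let aQ : Q := bQ * κ
  let A := Localization.Away aQ
  have hψa : ψQ aQ = 1 := by rw [map_mul, hψb', hψκ, one_mul]
  have hA : _root_.Synt.IsSyntomic R A := by
    have hspan : Ideal.span (algebraMap Q A '' good) = ⊤ := by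
      refine Ideal.eq_top_of_isUnit_mem _ ?_ (IsLocalization.Away.algebraMap_isUnit (S := A) aQ)
      rw [← Ideal.map_span]
      exact Ideal.mem_map_of_mem _ (Ideal.mul_mem_left _ _ hκ)
    obtain ⟨s, hs, hone⟩ := Submodule.mem_span_finite_of_mem_span
      (show (1 : A) ∈ Ideal.span (algebraMap Q A '' good) from hspan ▸ Submodule.mem_top)
    refine Groth.Agent.S9146.result R A s ((Ideal.eq_top_iff_one _).2 hone) fun z hz => ?_
    obtain ⟨γ, hγ, rfl⟩ := hs hz
    let Sγ := Localization.Away γ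
    let T₁ := Localization.Away (algebraMap Q A γ)
    let T₂ := Localization.Away (algebraMap Q Sγ aQ)
    have : IsLocalization.Away (aQ * γ) T₁ := IsLocalization.Away.mul' A T₁ aQ γ
    have : IsLocalization.Away (aQ * γ) T₂ := by
      rw [mul_comm]
      exact IsLocalization.Away.mul' Sγ T₂ γ aQ
    exact Synt92.Congr.isSyntomic_congr
      ((IsLocalization.algEquiv (Submonoid.powers (aQ * γ)) T₂ T₁).restrictScalars R)
      (LiftPrelim.isSyntomic_away _ hγ)
  refine ⟨A, inferInstance, inferInstance, hA, ?_⟩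
  -- the reduction
  have hψQ : ∀ y : Submonoid.powers aQ, IsUnit (ψQ y) := by
    rintro ⟨_, m, rfl⟩
    show IsUnit (ψQ (aQ ^ m))
    rw [map_pow, hψa, one_pow]
    exact isUnit_one
  let ψA : A →ₐ[R] A₀ := IsLocalization.liftAlgHom (M := Submonoid.powers aQ) (f := ψQ) hψQ
  have hψA : ∀ x, ψA (algebraMap Q A (Ideal.Quotient.mk H x)) = ψ x := fun x =>
    IsLocalization.lift_eq hψQ _
  have hIker : I.map (algebraMap R A) ≤ RingHom.ker ψA := by
    refine Ideal.map_le_iff_le_comap.2 fun x hx => ?_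
    show ψA (algebraMap R A x) = 0
    rw [AlgHom.commutes, IsScalarTower.algebraMap_apply R (R ⧸ I) A₀, Ideal.Quotient.algebraMap_eq,
      Ideal.Quotient.eq_zero_iff_mem.2 hx, map_zero]
  let Φ₀ : (A ⧸ I.map (algebraMap R A)) →+* A₀ := Ideal.Quotient.lift _ ψA.toRingHom hIker
  let Φ : (A ⧸ I.map (algebraMap R A)) →ₐ[R ⧸ I] A₀ :=
    { Φ₀ with
      commutes' := fun r => by
        obtain ⟨r, rfl⟩ := Ideal.Quotient.mk_surjective r
        show ψA (algebraMap R A r) = _
        exact ψA.commutes r }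
  refine ⟨AlgEquiv.ofBijective Φ ⟨?_, fun x => ?_⟩⟩
  · rw [injective_iff_map_eq_zero]
    intro z hz
    obtain ⟨z, rfl⟩ := Ideal.Quotient.mk_surjective z
    have hz' : ψA z = 0 := hz
    rw [Ideal.Quotient.eq_zero_iff_mem]
    obtain ⟨⟨q, s⟩, hqs⟩ := IsLocalization.surj (Submonoid.powers aQ) z
    obtain ⟨x, rfl⟩ := Ideal.Quotient.mk_surjective q
    have hx : x ∈ J₁ := by
      show ψ x = 0
      rw [← hψA, ← hqs, map_mul, hz', zero_mul]
    have h1 : algebraMap Q A (Ideal.Quotient.mk H (b * x)) ∈ I.map (algebraMap R A) := by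
      have hbx := hb x hx
      have hle : T ≤ (I.map (algebraMap R A)).comap ((algebraMap Q A).comp (Ideal.Quotient.mk H)) := by
        refine sup_le ?_ (Ideal.map_le_iff_le_comap.2 fun r hr => ?_)
        · intro y hy
          show algebraMap Q A (Ideal.Quotient.mk H y) ∈ I.map (algebraMap R A)
          rw [Ideal.Quotient.eq_zero_iff_mem.2 hy, map_zero]
          exact zero_mem _
        · show algebraMap Q A (Ideal.Quotient.mk H (algebraMap R P' r)) ∈ I.map (algebraMap R A)
          rw [show Ideal.Quotient.mk H (algebraMap R P' r) = algebraMap R Q r from rfl,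
            ← IsScalarTower.algebraMap_apply]
          exact Ideal.mem_map_of_mem _ hr
      exact hle hbx
    have hu : IsUnit (algebraMap Q A (Ideal.Quotient.mk H b) * algebraMap Q A s) := by
      refine IsUnit.mul ?_ (IsLocalization.map_units A s)
      have := IsLocalization.Away.algebraMap_isUnit (S := A) aQ
      have e : algebraMap Q A aQ = algebraMap Q A (Ideal.Quotient.mk H b) * algebraMap Q A κ :=
        map_mul _ bQ κ
      rw [e] at this
      exact isUnit_of_mul_isUnit_left this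
    rw [← Ideal.unit_mul_mem_iff_mem _ hu]
    rw [map_mul, map_mul, ← hqs] at h1
    convert h1 using 1
    ring
  · obtain ⟨y, rfl⟩ := hψsurj x
    exact ⟨Ideal.Quotient.mk _ (algebraMap Q A (Ideal.Quotient.mk H y)), hψA y⟩

end Groth.Agent.Lib.Smoothing.Synt.Lift
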