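import Groth.Agent.Lib.Synt92.Congr
import Groth.Agent.Lib.Synt92.MorAlg
import Groth.Agent.Lib.Synt92.PointCrit
import Mathlib.RingTheory.Smooth.StandardSmoothOfFree
import Mathlib.RingTheory.Ideal.Height

/-!
# Preliminaries for lifting syntomic algebras
-/

universe u

open MvPolynomial
open scoped TensorProduct

namespace Groth.Agent.Lib.Smoothing.Synt.LiftPrelim

/-- An étale algebra over a polynomial ring has a square presentation over the base. -/
theorem exists_etale_presentation {R P' : Type u} [CommRing R] {n : ℕ} [CommRing P']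
    [Algebra (MvPolynomial (Fin n) R) P'] [Algebra R P'] [IsScalarTower R (MvPolynomial (Fin n) R) P']
    [Algebra.Etale (MvPolynomial (Fin n) R) P'] :
    ∃ (m : ℕ) (π : MvPolynomial (Fin (n + m)) R →ₐ[R] P')
      (G : Fin m → MvPolynomial (Fin (n + m)) R),
      Function.Surjective π ∧ RingHom.ker π.toRingHom = Ideal.span (Set.range G) := by
  classical
  obtain ⟨ι, σ, hσ, hι, P, hP⟩ := (Algebra.Etale.iff_isStandardSmoothOfRelativeDimension_zero
    (R := MvPolynomial (Fin n) R) (S := P')).1 inferInstance
  have hcard : Nat.card σ = Nat.card ι := by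
    have h1 : Nat.card σ ≤ Nat.card ι := Nat.card_le_card_of_injective _ P.map_inj
    have h2 : Nat.card ι - Nat.card σ = 0 := hP
    omega
  let eι : Fin (Nat.card ι) ≃ ι := (Finite.equivFin ι).symm
  let eσ : Fin (Nat.card ι) ≃ σ := (finCongr hcard.symm).trans (Finite.equivFin σ).symm
  let m := Nat.card ι
  let Φ : MvPolynomial (Fin (n + m)) R ≃ₐ[R] MvPolynomial ι (MvPolynomial (Fin n) R) :=
    (renameEquiv R ((finSumFinEquiv.symm.trans (Equiv.sumComm _ _)).trans
      (Equiv.sumCongr eι (Equiv.refl _)))).trans (sumAlgEquiv R ι (Fin n))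
  let ev : MvPolynomial ι (MvPolynomial (Fin n) R) →ₐ[R] P' :=
    (aeval (R := MvPolynomial (Fin n) R) P.val).restrictScalars R
  refine ⟨m, ev.comp Φ.toAlgHom, fun l => Φ.symm (P.relation (eσ l)), ?_, ?_⟩
  · intro x
    exact ⟨Φ.symm (P.σ x), by
      show ev (Φ (Φ.symm (P.σ x))) = x
      rw [AlgEquiv.apply_symm_apply]
      exact P.aeval_val_σ x⟩
  · have hker : RingHom.ker ev.toRingHom = Ideal.span (Set.range P.relation) := by
      rw [P.span_range_relation_eq_ker, P.ker_eq_ker_aeval_val]
      rfl
    refine le_antisymm (fun z hz => ?_) (Ideal.span_le.2 ?_)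
    · have h1 : Φ z ∈ Ideal.span (Set.range P.relation) := hker.le hz
      have h2 := Ideal.mem_map_of_mem Φ.symm h1
      rw [Ideal.map_span, AlgEquiv.symm_apply_apply, ← Set.range_comp] at h2
      refine Ideal.span_mono ?_ h2
      rintro _ ⟨s, rfl⟩
      exact ⟨eσ.symm s, by simp⟩
    · rintro _ ⟨l, rfl⟩
      show ev (Φ (Φ.symm (P.relation (eσ l)))) = 0
      rw [AlgEquiv.apply_symm_apply]
      exact hker.ge (Ideal.subset_span ⟨_, rfl⟩)

/-- Localisation does not increase the dimension. -/
theorem ringKrullDim_le_of_isLocalization {S L : Type u} [CommRing S] [CommRing L] [Algebra S L]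
    (M : Submonoid S) [IsLocalization M L] : ringKrullDim L ≤ ringKrullDim S := by
  rw [ringKrullDim_le_iff_isMaximal_height_le]
  intro P hP
  have := hP.isPrime
  rw [← IsLocalization.map_under M L P, IsLocalization.height_map_of_disjoint M _
    ((IsLocalization.isPrime_iff_isPrime_disjoint M L P).1 hP.isPrime).2]
  exact Ideal.height_le_ringKrullDim_of_ne_top (Ideal.IsPrime.under S P).ne_top

/-- Shrinking a basic open does not increase the dimension of the fibres. -/
theorem ringKrullDim_fiber_away_mul_le {R A : Type u} [CommRing R] [CommRing A] [Algebra R A]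
    (p : Ideal R) [p.IsPrime] (g y : A) :
    ringKrullDim (p.Fiber (Localization.Away (g * y))) ≤
      ringKrullDim (p.Fiber (Localization.Away g)) := by
  let S := Localization.Away g
  let T := Localization.Away (algebraMap A S y)
  have : IsLocalization.Away (g * y) T := IsLocalization.Away.mul' S T g y
  let e : T ≃ₐ[R] Localization.Away (g * y) :=
    (IsLocalization.algEquiv (Submonoid.powers (g * y)) T (Localization.Away (g * y))).restrictScalars R
  obtain ⟨E, -⟩ := Synt92.Congr.exists_fiber_away p (algebraMap A S y)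
  have e' := Algebra.TensorProduct.congr (R := R) (S := p.ResidueField)
    (AlgEquiv.refl (A₁ := p.ResidueField)) e
  have h1 : ringKrullDim (p.Fiber T) = ringKrullDim (p.Fiber (Localization.Away (g * y))) :=
    ringKrullDim_eq_of_ringEquiv e'.toRingEquiv
  have h2 : ringKrullDim (Localization.Away ((1 : p.ResidueField) ⊗ₜ[R] algebraMap A S y : p.Fiber S)) =
      ringKrullDim (p.Fiber T) := ringKrullDim_eq_of_ringEquiv E.toRingEquiv
  exact h1.symm.le.trans (h2.symm.le.trans (ringKrullDim_le_of_isLocalization
    (Submonoid.powers ((1 : p.ResidueField) ⊗ₜ[R] algebraMap A S y : p.Fiber S))))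

/-- A basic open of a syntomic algebra is syntomic. -/
theorem isSyntomic_away {R S : Type u} [CommRing R] [CommRing S] [Algebra R S] (x : S)
    (h : _root_.Synt.IsSyntomic R S) : _root_.Synt.IsSyntomic R (Localization.Away x) := by
  obtain ⟨hflat, hfp, hci⟩ := Synt92.MorAlg.isSyntomic_iff.1 h
  have : Module.Flat S (Localization.Away x) := IsLocalization.flat _ (Submonoid.powers x)
  have : Algebra.FinitePresentation S (Localization.Away x) :=
    IsLocalization.Away.finitePresentation x
  refine Synt92.MorAlg.isSyntomic_iff.2 ⟨Module.Flat.trans R S _,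
    Algebra.FinitePresentation.trans R S _, fun p Q => ?_⟩
  obtain ⟨E, -⟩ := Synt92.Congr.exists_fiber_away p.asIdeal x
  let a := Q.asIdeal.comap E.toAlgHom.toRingHom
  have : a.IsPrime := Ideal.IsPrime.comap _
  let b := a.comap (algebraMap (p.asIdeal.Fiber S) _)
  have : b.IsPrime := Ideal.IsPrime.comap _
  have : IsLocalization.AtPrime (Localization.AtPrime a) b :=
    IsLocalization.isLocalization_isLocalization_atPrime_isLocalization
      (Submonoid.powers ((1 : p.asIdeal.ResidueField) ⊗ₜ[R] x : p.asIdeal.Fiber S)) _ a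
  have e : Localization.AtPrime b ≃ₐ[p.asIdeal.ResidueField] Localization.AtPrime a :=
    (IsLocalization.algEquiv b.primeCompl (Localization.AtPrime b)
      (Localization.AtPrime a)).restrictScalars _
  exact Synt92.CIPoint.isCIOver_congr (e.trans (Localization.localAlgEquiv a Q.asIdeal E rfl))
    (hci p ⟨b, inferInstance⟩)

end Groth.Agent.Lib.Smoothing.Synt.LiftPrelim
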