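import Groth.Agent.Lib.Smoothing.Synt.Charts
import Groth.Agent.Lib.Synt92.AwayPres
import Groth.Agent.Lib.Synt92.Congr
import Groth.Agent.Lib.Synt92.RelChart
import Groth.Agent.Lib.Synt92.GCIBasic
import Mathlib.RingTheory.KrullDimension.Polynomial
import Mathlib.RingTheory.Smooth.Basic

/-!
# Syntomic algebras are retracts of relative global complete intersections
-/

universe u

open MvPolynomial
open scoped TensorProduct

namespace Groth.Agent.Lib.Smoothing.Synt.Retract

/-- Krull dimension is local. -/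
theorem ringKrullDim_le_of_forall_away {B : Type u} [CommRing B] (m : WithBot ℕ∞)
    (H : ∀ P : Ideal B, P.IsMaximal → ∃ x, x ∉ P ∧ ringKrullDim (Localization.Away x) ≤ m) :
    ringKrullDim B ≤ m := by
  rw [ringKrullDim_le_iff_isMaximal_height_le]
  intro P hP
  obtain ⟨x, hx, hm⟩ := H P hP
  have hdis : Disjoint ((Submonoid.powers x : Submonoid B) : Set B) (P : Set B) := by
    rw [Set.disjoint_left]
    rintro _ ⟨k, rfl⟩ hk
    exact hx (hP.isPrime.mem_of_pow_mem k hk)
  have := IsLocalization.isPrime_of_isPrime_disjoint (Submonoid.powers x) (Localization.Away x) P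
    hP.isPrime hdis
  rw [← IsLocalization.height_map_of_disjoint (Submonoid.powers x) (S := Localization.Away x) P hdis]
  exact (Ideal.height_le_ringKrullDim_of_ne_top this.ne_top).trans hm

/-- Fibres of algebras generated by `c` elements over a relative global complete intersection. -/
theorem ringKrullDim_fiber_le {R B D : Type u} [CommRing R] [CommRing B] [Algebra R B]
    [Algebra.FiniteType R B] [CommRing D] [Algebra R D] (p : Ideal R) [p.IsPrime] {c m : ℕ}
    (Ψ : MvPolynomial (Fin c) B →ₐ[R] D) (hΨ : Function.Surjective Ψ)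
    (hB : Nontrivial (p.Fiber B) →
      ∃ d : ℕ, ringKrullDim (p.Fiber B) = (d : WithBot ℕ∞) ∧ d + c ≤ m) :
    ringKrullDim (p.Fiber D) ≤ (m : WithBot ℕ∞) := by
  let κ := p.ResidueField
  let β : B →ₐ[R] D := Ψ.comp (IsScalarTower.toAlgHom R B (MvPolynomial (Fin c) B))
  let Θ : MvPolynomial (Fin c) (p.Fiber B) →ₐ[κ] p.Fiber D :=
    MvPolynomial.aevalTower (Algebra.TensorProduct.map (AlgHom.id κ κ) β)
      fun i => (1 : κ) ⊗ₜ[R] Ψ (X i)
  have key : ∀ w, (1 : κ) ⊗ₜ[R] Ψ w ∈ Θ.range := fun w => by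
    induction w using MvPolynomial.induction_on with
    | C b => exact ⟨MvPolynomial.C ((1 : κ) ⊗ₜ[R] b), by simp [Θ, β]⟩
    | add u v hu hv =>
      rw [map_add, TensorProduct.tmul_add]
      exact add_mem hu hv
    | mul_X u i hu =>
      rw [map_mul, show (1 : κ) ⊗ₜ[R] (Ψ u * Ψ (X i)) =
        ((1 : κ) ⊗ₜ[R] Ψ u) * ((1 : κ) ⊗ₜ[R] Ψ (X i)) by
        rw [Algebra.TensorProduct.tmul_mul_tmul, one_mul]]
      exact mul_mem hu ⟨X i, by simp [Θ]⟩
  have hΘ : Function.Surjective Θ := by
    rw [← AlgHom.range_eq_top]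
    refine top_le_iff.1 fun x _ => ?_
    induction x using TensorProduct.induction_on with
    | zero => exact zero_mem _
    | add x y hx hy => exact add_mem (hx trivial) (hy trivial)
    | tmul a w =>
      obtain ⟨w, rfl⟩ := hΨ w
      rw [show a ⊗ₜ[R] Ψ w = a • ((1 : κ) ⊗ₜ[R] Ψ w) by
        rw [TensorProduct.smul_tmul', smul_eq_mul, mul_one]]
      exact Subalgebra.smul_mem _ (key w) a
  refine (ringKrullDim_le_of_surjective Θ.toRingHom hΘ).trans ?_
  rcases subsingleton_or_nontrivial (p.Fiber B) with h | h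
  · exact (ringKrullDim_eq_bot_of_subsingleton (R := MvPolynomial (Fin c) (p.Fiber B))).le.trans bot_le
  · have : IsNoetherianRing (p.Fiber B) := Algebra.FiniteType.isNoetherianRing κ _
    obtain ⟨d, hd, hdm⟩ := hB h
    rw [MvPolynomial.ringKrullDim_of_isNoetherianRing, hd]
    simp only [Nat.card_eq_fintype_card, Fintype.card_fin]
    exact_mod_cast hdm

/-- Coordinates of a vector fixed by an idempotent matrix. -/
theorem mul_eq_sum_of_idem {A D : Type u} [CommRing A] [CommRing D] (γ : A →+* D) {k c : ℕ}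
    (y : Fin k → D) (g : A) (M : Matrix (Fin k) (Fin k) A) (T : Matrix (Fin k) (Fin c) A)
    (N : Matrix (Fin c) (Fin k) A) (hgM : g • M = (T * N) * M)
    (hy : ∀ i, y i = ∑ l, γ (M i l) * y l) (i : Fin k) :
    γ g * y i = ∑ j, γ (T i j) * ∑ l, γ (N j l) * y l := by
  have h0 : (M.map γ).mulVec y = y := funext fun i => (hy i).symm
  have h1 : γ g • (M.map γ) = T.map γ * N.map γ * M.map γ := by
    rw [← Matrix.map_mul, ← Matrix.map_mul, ← hgM]
    ext a b
    simp
  have h2 := congrFun (congrArg (fun m => Matrix.mulVec m y) h1) i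
  simp only [Matrix.smul_mulVec, ← Matrix.mulVec_mulVec, h0, Pi.smul_apply, smul_eq_mul] at h2
  exact h2

variable {R A : Type u} [CommRing R] [CommRing A] [Algebra R A]

theorem main (h : _root_.Synt.IsSyntomic R A) :
    ∃ (n c : ℕ) (F : Fin c → MvPolynomial (Fin n) R), _root_.Synt.IsRelGCI R n c F ∧
      ∃ (_ : Algebra A (_root_.Synt.RelGCIRing R n c F))
        (_ : IsScalarTower R A (_root_.Synt.RelGCIRing R n c F)),
        Algebra.Smooth A (_root_.Synt.RelGCIRing R n c F) ∧
        ∃ ρ : _root_.Synt.RelGCIRing R n c F →ₐ[R] A,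
          ∀ a : A, ρ (algebraMap A (_root_.Synt.RelGCIRing R n c F) a) = a := by
  classical
  obtain ⟨hflat, hfp, hci⟩ := h
  have := hfp
  obtain ⟨n, φ, hφ, hI⟩ := hfp.out
  obtain ⟨k, gb, hgb'⟩ := Submodule.fg_iff_exists_fin_generating_family.1 hI
  have hgb : RingHom.ker φ.toRingHom = Ideal.span (Set.range gb) := hgb'.symm
  obtain ⟨M, hMgb, hM, hcharts⟩ := Charts.exists_charts ⟨hflat, ‹_›, hci⟩ φ hφ gb hgb
  let emb : MvPolynomial (Fin n) R →ₐ[R] (MvPolynomial (Fin (n + k)) R) := rename (Fin.castAdd k)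
  let Y : Fin k → (MvPolynomial (Fin (n + k)) R) := fun i => X (Fin.natAdd n i)
  let Mt : Matrix (Fin k) (Fin k) (MvPolynomial (Fin (n + k)) R) := M.map emb
  let d : Fin k → (MvPolynomial (Fin (n + k)) R) := fun i => Y i - ∑ l, Mt i l * Y l
  let f : Fin k → (MvPolynomial (Fin (n + k)) R) := fun i => emb (gb i) + (d i - ∑ l, Mt i l * d l)
  let J : Ideal (MvPolynomial (Fin (n + k)) R) := Ideal.span (Set.range fun i => emb (gb i)) ⊔ Ideal.span (Set.range d)
  have hgJ : ∀ i, emb (gb i) ∈ J := fun i => Ideal.mem_sup_left (Ideal.subset_span ⟨i, rfl⟩)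
  have hdJ : ∀ i, d i ∈ J := fun i => Ideal.mem_sup_right (Ideal.subset_span ⟨i, rfl⟩)
  have hkerJ : ∀ x : MvPolynomial (Fin n) R, φ x = 0 → emb x ∈ Ideal.span (Set.range fun i => emb (gb i)) := fun x hx => by
    have := Ideal.mem_map_of_mem emb (hgb.le hx : x ∈ Ideal.span (Set.range gb))
    rwa [Ideal.map_span, ← Set.range_comp] at this
  -- Nakayama
  obtain ⟨b, hb₁, hb⟩ : ∃ b, b - 1 ∈ J ∧ ∀ x ∈ J, b * x ∈ Ideal.span (Set.range f) := by
    set T := Ideal.span (Set.range f)
    let K := T ⊔ J * J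
    have hfK : ∀ i, f i ∈ K := fun i => Ideal.mem_sup_left (Ideal.subset_span ⟨i, rfl⟩)
    have hidem : ∀ i l, (Mt - Mt * Mt) i l ∈ Ideal.span (Set.range fun i => emb (gb i)) := fun i l => by
      have h1 : φ ((M - M * M) i l) = 0 := by
        have := congrFun (congrFun hM.eq i) l
        simp only [Matrix.mul_apply, Matrix.map_apply] at this
        simp [Matrix.sub_apply, Matrix.mul_apply, this]
      have h2 := hkerJ _ h1
      simpa [Mt, Matrix.sub_apply, Matrix.mul_apply] using h2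
    have hidemJ : ∀ i l, (Mt - Mt * Mt) i l ∈ J := fun i l => Ideal.mem_sup_left (hidem i l)
    have hgg : ∀ i, emb (gb i) - ∑ l, Mt i l * emb (gb l) ∈ J * J := fun i => by
      have h1 := Ideal.mem_map_of_mem emb (hMgb i)
      rw [Ideal.map_pow, Ideal.map_span, ← Set.range_comp, pow_two] at h1
      have hle : Ideal.span (Set.range fun i => emb (gb i)) ≤ J := le_sup_left
      have h2 := Ideal.mul_mono hle hle h1
      simpa [Mt, map_sub, map_sum] using h2
    have hg : ∀ i, emb (gb i) ∈ K := fun i => by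
      have h1 : emb (gb i) = (emb (gb i) - ∑ l, Mt i l * emb (gb l)) + ∑ l, Mt i l * f l -
          ∑ l, (Mt - Mt * Mt) i l * d l := by
        have h2 : ∑ l, Mt i l * ∑ m, Mt l m * d m = ∑ m, (Mt * Mt) i m * d m := by
          simp only [Matrix.mul_apply, Finset.mul_sum, Finset.sum_mul]
          rw [Finset.sum_comm]
          exact Finset.sum_congr rfl fun _ _ => Finset.sum_congr rfl fun _ _ => by ring
        simp only [f, Matrix.sub_apply, mul_add, mul_sub, sub_mul, Finset.sum_add_distrib,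
          Finset.sum_sub_distrib, h2]
        ring
      rw [h1]
      refine sub_mem (add_mem (Ideal.mem_sup_right (hgg i)) (Ideal.sum_mem _ fun l _ =>
        Ideal.mul_mem_left _ _ (hfK l))) (Ideal.sum_mem _ fun l _ => ?_)
      exact Ideal.mem_sup_right (Ideal.mul_mem_mul (hidemJ i l) (hdJ l))
    have hd : ∀ i, d i ∈ K := fun i => by
      have h1 : d i = (f i - emb (gb i)) + ∑ l, Mt i l * d l := by simp only [f]; ring
      have h2 : ∑ l, Mt i l * d l = ∑ l, (Mt - Mt * Mt) i l * Y l := by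
        have h3 : ∑ l, Mt i l * ∑ m, Mt l m * Y m = ∑ m, (Mt * Mt) i m * Y m := by
          simp only [Matrix.mul_apply, Finset.mul_sum, Finset.sum_mul]
          rw [Finset.sum_comm]
          exact Finset.sum_congr rfl fun _ _ => Finset.sum_congr rfl fun _ _ => by ring
        simp only [d, mul_sub, Matrix.sub_apply, sub_mul, Finset.sum_sub_distrib, h3]
      rw [h1, h2]
      refine add_mem (sub_mem (hfK i) (hg i)) (Ideal.sum_mem _ fun l _ => Ideal.mul_mem_right _ _ ?_)
      exact Ideal.span_le.2 (by rintro _ ⟨j, rfl⟩; exact hg j) (hidem i l)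
    have hJK : J ≤ K := sup_le (Ideal.span_le.2 (by rintro _ ⟨j, rfl⟩; exact hg j))
      (Ideal.span_le.2 (by rintro _ ⟨j, rfl⟩; exact hd j))
    have hJfg : Submodule.FG J :=
      (Submodule.fg_span (Set.finite_range _)).sup (Submodule.fg_span (Set.finite_range _))
    let N : Submodule (MvPolynomial (Fin (n + k)) R) ((MvPolynomial (Fin (n + k)) R) ⧸ T) := Submodule.map T.mkQ J
    obtain ⟨b, hb, hb'⟩ := Submodule.exists_sub_one_mem_and_smul_eq_zero_of_fg_of_le_smul J N
      (Submodule.FG.map _ hJfg) (by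
        refine (Submodule.map_mono hJK).trans ?_
        rw [Submodule.map_sup]
        refine sup_le ?_ ?_
        · rintro _ ⟨x, hx, rfl⟩
          rw [show T.mkQ x = 0 from (Submodule.Quotient.mk_eq_zero _).2 hx]
          exact zero_mem _
        · rw [← smul_eq_mul, Submodule.map_smul''])
    exact ⟨b, hb, fun x hx => (Submodule.Quotient.mk_eq_zero T).1 (hb' _ ⟨x, hx, rfl⟩)⟩
  have hfJ : Ideal.span (Set.range f) ≤ J := Ideal.span_le.2 (by
    rintro _ ⟨i, rfl⟩
    exact add_mem (hgJ i) (sub_mem (hdJ i) (Ideal.sum_mem _ fun l _ => Ideal.mul_mem_left _ _ (hdJ l))))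
  -- the algebra
  let C₁ := (MvPolynomial (Fin (n + k)) R) ⧸ J
  let mk₁ : (MvPolynomial (Fin (n + k)) R) →ₐ[R] C₁ := Ideal.Quotient.mkₐ R J
  let α : A →ₐ[R] C₁ := AlgHom.liftOfSurjective φ hφ (mk₁.comp emb) fun x hx =>
    Ideal.Quotient.eq_zero_iff_mem.2 (Ideal.mem_sup_left (hkerJ x hx))
  let _ : Algebra A C₁ := α.toRingHom.toAlgebra
  have : IsScalarTower R A C₁ := IsScalarTower.of_algebraMap_eq fun r => (α.commutes r).symm
  have hα : ∀ x, algebraMap A C₁ (φ x) = mk₁ (emb x) := fun x => AlgHom.liftOfSurjective_apply ..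
  have hFP₁ : Algebra.FinitePresentation R C₁ := Algebra.FinitePresentation.quotient
    ((Submodule.fg_span (Set.finite_range _)).sup (Submodule.fg_span (Set.finite_range _)))
  have : Algebra.FiniteType R A := inferInstance
  have hFP : Algebra.FinitePresentation A C₁ :=
    Algebra.FinitePresentation.of_restrict_scalars_finitePresentation R A C₁
  -- the projection onto the image of the idempotent
  have hkill : ∀ (D : Type u) [CommRing D] [Algebra R D] (σ : (MvPolynomial (Fin (n + k)) R) →ₐ[R] D) (γ : A →ₐ[R] D)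
      (v : Fin k → D), (∀ x, σ (emb x) = γ (φ x)) →
      (∀ i, σ (Y i) = ∑ l, γ (φ (M i l)) * v l) → J ≤ RingHom.ker σ.toRingHom := by
    intro D _ _ σ γ v hσ hσY
    refine sup_le (Ideal.span_le.2 ?_) (Ideal.span_le.2 ?_)
    · rintro _ ⟨i, rfl⟩
      show σ (emb (gb i)) = 0
      rw [hσ, show φ (gb i) = 0 from hgb.ge (Ideal.subset_span ⟨i, rfl⟩), map_zero]
    · rintro _ ⟨i, rfl⟩
      show σ (d i) = 0
      have h1 : ∀ m, ∑ l, γ (φ (M i l)) * γ (φ (M l m)) = γ (φ (M i m)) := fun m => by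
        have := congrFun (congrFun hM.eq i) m
        simp only [Matrix.mul_apply, Matrix.map_apply] at this
        rw [← this]
        simp
      simp only [d, map_sub, map_sum, map_mul, hσY, Mt, Matrix.map_apply, hσ, Finset.mul_sum,
        ← mul_assoc]
      rw [Finset.sum_comm (f := fun x i_1 => γ (φ (M i x)) * γ (φ (M x i_1)) * v i_1)]
      simp only [← Finset.sum_mul, h1, sub_self]
  have hmkY : ∀ i, ∑ l, algebraMap A C₁ (φ (M i l)) * mk₁ (Y l) = mk₁ (Y i) := fun i => by
    have h1 : mk₁ (d i) = 0 := Ideal.Quotient.eq_zero_iff_mem.2 (hdJ i)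
    simp only [d, map_sub, map_sum, map_mul, sub_eq_zero] at h1
    simp only [hα]
    exact h1.symm
  have hFS : Algebra.FormallySmooth A C₁ := by
    refine Algebra.FormallySmooth.of_comp_surjective fun D _ _ K hK gA => ?_
    let _ : Algebra R D := Algebra.compHom D (algebraMap R A)
    have : IsScalarTower R A D := IsScalarTower.of_algebraMap_eq fun r => rfl
    choose v hv using fun l => Ideal.Quotient.mk_surjective (gA (mk₁ (Y l)))
    let γ : A →ₐ[R] D := IsScalarTower.toAlgHom R A D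
    let σ : (MvPolynomial (Fin (n + k)) R) →ₐ[R] D := aeval (Fin.append (fun i => γ (φ (X i)))
      (fun i => ∑ l, γ (φ (M i l)) * v l))
    have hσ : ∀ x, σ (emb x) = γ (φ x) := fun x => by
      suffices σ.comp emb = γ.comp φ from DFunLike.congr_fun this x
      exact MvPolynomial.algHom_ext fun i => by simp [σ, emb]
    have hσY : ∀ i, σ (Y i) = ∑ l, γ (φ (M i l)) * v l := fun i => by simp [σ, Y]
    let σ₁ : C₁ →ₐ[R] D := Ideal.Quotient.liftₐ J σ fun x hx => hkill D σ γ v hσ hσY hx
    let σA : C₁ →ₐ[A] D :=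
      { σ₁.toRingHom with
        commutes' := fun a => by
          obtain ⟨x, rfl⟩ := hφ a
          show σ₁ (algebraMap A C₁ (φ x)) = _
          rw [hα]
          exact hσ x }
    refine ⟨σA, AlgHom.ext fun z => ?_⟩
    obtain ⟨z, rfl⟩ := Ideal.Quotient.mk_surjective z
    show Ideal.Quotient.mk K (σ z) = gA (mk₁ z)
    suffices ((Ideal.Quotient.mkₐ R K).comp σ) = (gA.restrictScalars R).comp mk₁ from
      DFunLike.congr_fun this z
    refine MvPolynomial.algHom_ext fun j => Fin.addCases (fun i => ?_) (fun i => ?_) j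
    · show Ideal.Quotient.mk K (σ (X (Fin.castAdd k i))) = gA (mk₁ (X (Fin.castAdd k i)))
      rw [show (X (Fin.castAdd k i) : (MvPolynomial (Fin (n + k)) R)) = emb (X i) by simp [emb], hσ, ← hα, AlgHom.commutes]
      rfl
    · show Ideal.Quotient.mk K (σ (Y i)) = gA (mk₁ (Y i))
      rw [hσY, map_sum, ← hmkY, map_sum]
      refine Finset.sum_congr rfl fun l _ => ?_
      rw [map_mul, map_mul, hv, AlgHom.commutes]
      rfl
  have hsm : Algebra.Smooth A C₁ := ⟨hFS, hFP⟩
  -- the retraction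
  let σ₀ : (MvPolynomial (Fin (n + k)) R) →ₐ[R] A := aeval (Fin.append (fun i => φ (X i)) 0)
  have hσ₀ : ∀ x, σ₀ (emb x) = φ x := fun x => by
    suffices σ₀.comp emb = φ from DFunLike.congr_fun this x
    exact MvPolynomial.algHom_ext fun i => by simp [σ₀, emb]
  let ρ₁ : C₁ →ₐ[R] A := Ideal.Quotient.liftₐ J σ₀ fun x hx =>
    hkill A σ₀ (AlgHom.id R A) 0 hσ₀ (fun i => by simp [σ₀, Y]) hx
  -- the presentation
  obtain ⟨e₁⟩ := Synt92.AwayPres.nonempty_equiv R (n + k) k f b
  obtain ⟨e₂⟩ := Synt92.Congr.nonempty_away_quotient (R := R) J (Ideal.span (Set.range f)) hfJ b hb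
  have hb1 : Ideal.Quotient.mk J b = 1 := by
    rw [← map_one (Ideal.Quotient.mk J), Ideal.Quotient.mk_eq_mk_iff_sub_mem]
    exact hb₁
  let e : C₁ ≃ₐ[R] _root_.Synt.RelGCIRing R (n + k + 1) (k + 1) (Synt92.AwayPres.ext R (n + k) k f b) :=
    ((IsLocalization.atUnits C₁ (Submonoid.powers (Ideal.Quotient.mk J b))
      (S := Localization.Away (Ideal.Quotient.mk J b)) (by
        rw [Submonoid.powers_le, hb1]; exact one_mem _)).restrictScalars R).trans (e₂.symm.trans e₁)
  -- the fibres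
  have hdim : ∀ p : PrimeSpectrum R, ringKrullDim (p.asIdeal.Fiber C₁) ≤ ((n : ℕ) : WithBot ℕ∞) := by
    intro p
    show ringKrullDim (p.asIdeal.Fiber C₁) ≤ _
    refine @ringKrullDim_le_of_forall_away (p.asIdeal.Fiber C₁) _ _ fun Q hQ => ?_
    have := hQ.isPrime
    let q : Ideal A := (Q.comap
      (Algebra.TensorProduct.includeRight (R := R) (A := p.asIdeal.ResidueField) (B := C₁)).toRingHom).comap
        (algebraMap A C₁)
    obtain ⟨c, F, g, a, t, hg, hF, haF, htF, hrel, hgM⟩ := hcharts q inferInstance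
    refine ⟨(1 : p.asIdeal.ResidueField) ⊗ₜ[R] algebraMap A C₁ (φ g), hg, ?_⟩
    obtain ⟨E, -⟩ := Synt92.Congr.exists_fiber_away p.asIdeal (algebraMap A C₁ (φ g))
    refine (ringKrullDim_eq_of_ringEquiv E.toRingEquiv).le.trans ?_
    let Cg := Localization.Away (algebraMap A C₁ (φ g))
    let ι : C₁ →ₐ[R] Cg := IsScalarTower.toAlgHom R C₁ Cg
    have hu : IsUnit (ι (algebraMap A C₁ (φ g))) := IsLocalization.Away.algebraMap_isUnit _
    let γ : A →ₐ[R] Cg := ι.comp (IsScalarTower.toAlgHom R A C₁)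
    let B := _root_.Synt.RelGCIRing R (n + 1) (c + 1) (Synt92.AwayPres.ext R n c F g)
    let θ : MvPolynomial (Fin (n + 1)) R →ₐ[R] Cg :=
      aeval (Fin.snoc (fun i => γ (φ (X i))) (↑hu.unit⁻¹ : Cg))
    have hren : ∀ x, θ (rename Fin.castSucc x) = γ (φ x) := fun x => by
      have : θ.comp (rename Fin.castSucc) = γ.comp φ := MvPolynomial.algHom_ext fun i => by simp [θ]
      exact DFunLike.congr_fun this x
    have hθ : Ideal.span (Set.range (Synt92.AwayPres.ext R n c F g)) ≤ RingHom.ker θ.toRingHom := by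
      rw [Ideal.span_le]
      rintro _ ⟨i, rfl⟩
      show θ (Synt92.AwayPres.ext R n c F g i) = 0
      refine Fin.lastCases ?_ (fun i => ?_) i
      · simp only [Synt92.AwayPres.ext, Fin.snoc_last, map_sub, map_mul, map_one, hren, sub_eq_zero]
        rw [show θ (X (Fin.last n)) = (↑hu.unit⁻¹ : Cg) by simp [θ]]
        exact hu.mul_val_inv
      · simp only [Synt92.AwayPres.ext, Fin.snoc_castSucc, hren, hF, map_zero]
    let β : B →ₐ[R] Cg := Ideal.Quotient.liftₐ _ θ fun x hx => hθ hx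
    let z : Fin c → Cg := fun j => ∑ l, γ (φ (a j l)) * ι (mk₁ (Y l))
    let Ψ : MvPolynomial (Fin c) B →ₐ[R] Cg := MvPolynomial.aevalTower β z
    have hΨ : Function.Surjective Ψ := by
      have hCr : ∀ w : MvPolynomial (Fin (n + 1)) R, θ w ∈ Ψ.range := fun w =>
        ⟨MvPolynomial.C (Ideal.Quotient.mk _ w), MvPolynomial.aevalTower_C _ _ _⟩
      have hγr : ∀ x, γ (φ x) ∈ Ψ.range := fun x => hren x ▸ hCr _
      have hinv : (↑hu.unit⁻¹ : Cg) ∈ Ψ.range := by
        have := hCr (X (Fin.last n))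
        rwa [show θ (X (Fin.last n)) = (↑hu.unit⁻¹ : Cg) by simp [θ]] at this
      have hzr : ∀ j, z j ∈ Ψ.range := fun j => ⟨X j, MvPolynomial.aevalTower_X _ _ _⟩
      have hYr : ∀ i, ι (mk₁ (Y i)) ∈ Ψ.range := fun i => by
        have h1 : γ (φ g) * ι (mk₁ (Y i)) = ∑ j, γ (φ (t i j)) * z j := by
          have hY : ∀ i, ι (mk₁ (Y i)) = ∑ l, γ (φ (M i l)) * ι (mk₁ (Y l)) := fun i => by
            conv_lhs => rw [← hmkY i, map_sum]
            simp only [map_mul]
            rfl
          exact mul_eq_sum_of_idem γ.toRingHom (fun l => ι (mk₁ (Y l))) (φ g) (M.map φ) (t.map φ)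
            (a.map φ) (by rw [← Matrix.map_mul]; exact hgM) hY i
        have h3 : ι (mk₁ (Y i)) = (↑hu.unit⁻¹ : Cg) * ∑ j, γ (φ (t i j)) * z j := by
          rw [← h1, ← mul_assoc,
            show (↑hu.unit⁻¹ : Cg) * γ (φ g) = 1 from hu.val_inv_mul, one_mul]
        rw [h3]
        exact mul_mem hinv (sum_mem fun j _ => mul_mem (hγr _) (hzr j))
      have hC : ∀ w : (MvPolynomial (Fin (n + k)) R), ι (mk₁ w) ∈ Ψ.range := fun w => by
        induction w using MvPolynomial.induction_on with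
        | C r =>
          rw [← MvPolynomial.algebraMap_eq, AlgHom.commutes, AlgHom.commutes]
          exact Subalgebra.algebraMap_mem _ r
        | add u v hu hv => rw [map_add, map_add]; exact add_mem hu hv
        | mul_X u j hu' =>
          rw [map_mul, map_mul]
          refine mul_mem hu' (Fin.addCases (fun i => ?_) (fun i => hYr i) j)
          have := hγr (X i)
          rwa [show γ (φ (X i)) = ι (mk₁ (X (Fin.castAdd k i))) from congrArg ι
            ((hα _).trans (congrArg mk₁ (rename_X _ _)))] at this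
      intro x
      obtain ⟨⟨c₁, ⟨_, N, rfl⟩⟩, hx⟩ :=
        IsLocalization.surj (Submonoid.powers (algebraMap A C₁ (φ g))) x
      obtain ⟨w, rfl⟩ := Ideal.Quotient.mk_surjective c₁
      suffices x ∈ Ψ.range from this
      have h4 : x = ι (mk₁ w) * (↑hu.unit⁻¹ : Cg) ^ N := by
        have h5 : x * ι (algebraMap A C₁ (φ g)) ^ N = ι (mk₁ w) := by
          rw [← map_pow]; exact hx
        rw [← h5, mul_assoc, ← mul_pow, hu.mul_val_inv, one_pow, mul_one]
      rw [h4]
      exact mul_mem (hC w) (pow_mem hinv N)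
    refine ringKrullDim_fiber_le (m := n) p.asIdeal Ψ hΨ fun hB => ?_
    obtain ⟨hcn, hd⟩ := hrel p hB
    exact ⟨_, hd, by omega⟩
  let _ : Algebra A (_root_.Synt.RelGCIRing R (n + k + 1) (k + 1) (Synt92.AwayPres.ext R (n + k) k f b)) :=
    (e.toAlgHom.comp α).toRingHom.toAlgebra
  have : IsScalarTower R A
      (_root_.Synt.RelGCIRing R (n + k + 1) (k + 1) (Synt92.AwayPres.ext R (n + k) k f b)) :=
    IsScalarTower.of_algebraMap_eq fun r => ((e.toAlgHom.comp α).commutes r).symm
  refine ⟨n + k + 1, k + 1, Synt92.AwayPres.ext R (n + k) k f b, fun p hp => ?_, inferInstance,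
    inferInstance, ?_, ρ₁.comp e.symm.toAlgHom, fun a => ?_⟩
  · refine ⟨by omega, ?_⟩
    obtain ⟨ψ, hψ, hψker⟩ := Synt92.GCIBasic.exists_presentation R
      (Synt92.AwayPres.ext R (n + k) k f b) p.asIdeal
    haveI := hp
    refine @Synt92.RelChart.ringKrullDim_eq p.asIdeal.ResidueField _ (n + k + 1) (k + 1) (by omega)
      (p.asIdeal.Fiber (_root_.Synt.RelGCIRing R (n + k + 1) (k + 1)
        (Synt92.AwayPres.ext R (n + k) k f b))) _ _ hp ψ hψ _ hψker ?_
    rw [show n + k + 1 - (k + 1) = n by omega]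
    exact (ringKrullDim_eq_of_ringEquiv (Algebra.TensorProduct.congr (R := R)
      (S := p.asIdeal.ResidueField) (AlgEquiv.refl (A₁ := p.asIdeal.ResidueField)) e).toRingEquiv).ge.trans (hdim p)
  · exact Algebra.Smooth.of_equiv (AlgEquiv.ofRingEquiv (f := e.toRingEquiv) fun a => rfl)
  · show ρ₁ (e.symm (e (α a))) = a
    rw [AlgEquiv.symm_apply_apply]
    obtain ⟨x, rfl⟩ := hφ a
    rw [show α (φ x) = mk₁ (emb x) from hα x]
    exact hσ₀ x

end Groth.Agent.Lib.Smoothing.Synt.Retract
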